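import Mathlib

/-!
# Abstract filtration lemma and rank of the image of a map with one-dimensional kernel
-/

namespace Groth.Agent.Lib.Helper2.WronskP1

open Module

variable {k : Type*} [Field k] {L' W : Type*} [AddCommGroup L'] [Module k L'] [AddCommGroup W]
  [Module k W]

theorem filt_lemma (T : L' →ₗ[k] W) (E : L') (hTE : T E = 0) (F : ℕ → Submodule k L')
    (G : ℕ → Submodule k W) (hG : Antitone G) (e δ : ℕ)
    (hb : ∀ v, v ≠ e → ∀ Q ∈ F v, T Q ∈ G (v + 1 - δ) → Q ∈ F (v + 1))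
    (hc : ∀ Q ∈ F e, ∃ c : k, Q - c • E ∈ F (e + 1))
    (n : ℕ) (Q : L') (hQ : Q ∈ F 0) (hTQ : T Q ∈ G n) : ∃ c : k, Q - c • E ∈ F (n + δ) := by
  have key : ∀ j, j ≤ n + δ → ∃ c : k, Q - c • E ∈ F j := by
    intro j
    induction j with
    | zero => intro _; exact ⟨0, by simpa using hQ⟩
    | succ j ih =>
      intro hj
      obtain ⟨c, hcQ⟩ := ih (by omega)
      have hT : T (Q - c • E) = T Q := by rw [map_sub, map_smul, hTE, smul_zero, sub_zero]
      by_cases hje : j = e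
      · subst hje
        obtain ⟨c', hc'⟩ := hc _ hcQ
        refine ⟨c + c', ?_⟩
        have : Q - (c + c') • E = Q - c • E - c' • E := by rw [add_smul]; abel
        rw [this]; exact hc'
      · refine ⟨c, hb j hje _ hcQ ?_⟩
        rw [hT]
        exact hG (by omega : j + 1 - δ ≤ n) hTQ
  exact key _ le_rfl

theorem inf_eq_map_of_filt (T : L' →ₗ[k] W) (E : L') (hTE : T E = 0)
    (F : ℕ → Submodule k L')
    (G : ℕ → Submodule k W) (hF : Antitone F) (hG : Antitone G) (e δ : ℕ)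
    (ha : ∀ n, ∀ Q ∈ F (n + δ), T Q ∈ G n)
    (hb : ∀ v, v ≠ e → ∀ Q ∈ F v, T Q ∈ G (v + 1 - δ) → Q ∈ F (v + 1))
    (hc : ∀ Q ∈ F e, ∃ c : k, Q - c • E ∈ F (e + 1)) (n : ℕ) :
    (F 0).map T ⊓ G n = (F (n + δ)).map T := by
  apply le_antisymm
  · rintro _ ⟨⟨Q, hQ, rfl⟩, hGn⟩
    obtain ⟨c, hcQ⟩ := filt_lemma T E hTE F G hG e δ hb hc n Q hQ hGn
    refine ⟨Q - c • E, hcQ, ?_⟩
    rw [map_sub, map_smul, hTE, smul_zero, sub_zero]
  · rintro _ ⟨Q, hQ, rfl⟩
    exact ⟨⟨Q, hF (Nat.zero_le _) hQ, rfl⟩, ha n Q hQ⟩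

theorem finrank_map_of_mem (T : L' →ₗ[k] W) (E : L') (hE : E ≠ 0) (hTE : T E = 0)
    (hker : ∀ Q, T Q = 0 → ∃ c : k, Q = c • E)
    (A : Submodule k L') [FiniteDimensional k A] (hEA : E ∈ A) :
    finrank k (A.map T) + 1 = finrank k A := by
  have h1 := LinearMap.finrank_range_add_finrank_ker (T.domRestrict A)
  rw [LinearMap.range_domRestrict] at h1
  have h2 : LinearMap.ker (T.domRestrict A) = Submodule.span k {(⟨E, hEA⟩ : A)} := by
    ext x
    rw [LinearMap.mem_ker, Submodule.mem_span_singleton]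
    constructor
    · intro hx
      obtain ⟨c, hc⟩ := hker x.1 hx
      exact ⟨c, Subtype.ext hc.symm⟩
    · rintro ⟨c, rfl⟩
      show T (c • E) = 0
      rw [map_smul, hTE, smul_zero]
  have h3 : finrank k (Submodule.span k {(⟨E, hEA⟩ : A)}) = 1 :=
    finrank_span_singleton (fun h => hE (congrArg Subtype.val h))
  rw [h2, h3] at h1
  exact h1

theorem finrank_map_of_not_mem (T : L' →ₗ[k] W) (E : L')
    (hker : ∀ Q, T Q = 0 → ∃ c : k, Q = c • E)
    (A : Submodule k L') [FiniteDimensional k A] (hEA : E ∉ A) :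
    finrank k (A.map T) = finrank k A := by
  have h1 := LinearMap.finrank_range_add_finrank_ker (T.domRestrict A)
  rw [LinearMap.range_domRestrict] at h1
  have h2 : LinearMap.ker (T.domRestrict A) = ⊥ := by
    rw [Submodule.eq_bot_iff]
    intro x hx
    obtain ⟨c, hc⟩ := hker x.1 hx
    by_cases hc0 : c = 0
    · apply Subtype.ext
      rw [hc, hc0, zero_smul]; rfl
    · exfalso
      apply hEA
      have : E = c⁻¹ • x.1 := by rw [hc, smul_smul, inv_mul_cancel₀ hc0, one_smul]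
      rw [this]
      exact A.smul_mem _ x.2
  rw [h2, finrank_bot, add_zero] at h1
  exact h1

/-- Hyperplane sections: if `V₁` has codimension one in `V` then for `Z ≤ V` not inside `V₁`
the intersection `V₁ ⊓ Z` has codimension one in `Z`. -/
theorem finrank_hyperplane_inf (V V₁ Z : Submodule k W) [FiniteDimensional k V] (h1 : V₁ ≤ V)
    (hZ : Z ≤ V) (hcodim : finrank k V₁ + 1 = finrank k V) (hnot : ¬ Z ≤ V₁) :
    finrank k ↥(V₁ ⊓ Z) + 1 = finrank k Z := by
  have : FiniteDimensional k V₁ := Submodule.finiteDimensional_of_le h1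
  have : FiniteDimensional k Z := Submodule.finiteDimensional_of_le hZ
  have hsup : V₁ ⊔ Z = V := by
    have hle : V₁ ⊔ Z ≤ V := sup_le h1 hZ
    have : FiniteDimensional k ↥(V₁ ⊔ Z) := Submodule.finiteDimensional_of_le hle
    have hlt : V₁ < V₁ ⊔ Z := by
      refine lt_of_le_of_ne le_sup_left ?_
      intro h
      exact hnot (h ▸ le_sup_right)
    have h2 := Submodule.finrank_lt_finrank_of_lt hlt
    have h3 := Submodule.finrank_mono hle
    exact Submodule.eq_of_le_of_finrank_le hle (by omega)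
  have h4 := Submodule.finrank_sup_add_finrank_inf_eq V₁ Z
  rw [hsup] at h4
  omega

theorem finrank_hyperplane_inf_of_le (V₁ Z : Submodule k W) (hle : Z ≤ V₁) :
    finrank k ↥(V₁ ⊓ Z) = finrank k Z := by
  rw [inf_eq_right.2 hle]

end Groth.Agent.Lib.Helper2.WronskP1
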