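import Mathlib

/-!
# Exact differentials on the projective line with prescribed poles: basic identities

`E = ∏ (X - r_j)^{a_j}`, `R = ∏ (X - r_j)`, `S = E' R / E`, `D = E R`, and the operator
`T Q = R Q' - S Q` (so that `T Q = D (Q / E)'`).
-/

namespace Groth.Agent.Lib.Helper2.WronskP1

open Polynomial Finset

variable {k : Type*} [Field k] {m : ℕ} (r : Fin m → k) (a : Fin m → ℕ)

noncomputable def Es (s : Finset (Fin m)) : k[X] := ∏ j ∈ s, (X - C (r j)) ^ a j
noncomputable def Rs (s : Finset (Fin m)) : k[X] := ∏ j ∈ s, (X - C (r j))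
noncomputable def Ss (s : Finset (Fin m)) : k[X] := ∑ j ∈ s, (a j : k[X]) * Rs r (s.erase j)
noncomputable def Ds (s : Finset (Fin m)) : k[X] := ∏ j ∈ s, (X - C (r j)) ^ (a j + 1)

theorem Ds_eq (s : Finset (Fin m)) : Ds r a s = Es r a s * Rs r s := by
  simp only [Ds, Es, Rs, ← Finset.prod_mul_distrib, pow_succ]

theorem logderiv (s : Finset (Fin m)) :
    derivative (Es r a s) * Rs r s = Ss r a s * Es r a s := by
  classical
  simp only [Es, Ss, Rs]
  rw [derivative_prod_finset, Finset.sum_mul, Finset.sum_mul]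
  refine Finset.sum_congr rfl fun j hj => ?_
  rw [derivative_X_sub_C_pow]
  have h1 : ∏ x ∈ s, (X - C (r x)) = (X - C (r j)) * ∏ x ∈ s.erase j, (X - C (r x)) :=
    (Finset.mul_prod_erase s (fun x => X - C (r x)) hj).symm
  have h2 : ∏ x ∈ s, (X - C (r x)) ^ a x =
      (X - C (r j)) ^ a j * ∏ x ∈ s.erase j, (X - C (r x)) ^ a x :=
    (Finset.mul_prod_erase s (fun x => (X - C (r x)) ^ a x) hj).symm
  rw [h1, h2]
  rcases Nat.eq_zero_or_pos (a j) with h0 | h0
  · rw [h0]; simp
  · obtain ⟨n, hn⟩ : ∃ n, a j = n + 1 := ⟨a j - 1, by omega⟩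
    rw [hn, Nat.add_sub_cancel, pow_succ]
    simp only [map_natCast]
    ring

theorem Rs_erase (s : Finset (Fin m)) (i : Fin m) (hi : i ∈ s) :
    Rs r s = (X - C (r i)) * Rs r (s.erase i) :=
  (Finset.mul_prod_erase s (fun x => X - C (r x)) hi).symm

theorem Es_erase (s : Finset (Fin m)) (i : Fin m) (hi : i ∈ s) :
    Es r a s = (X - C (r i)) ^ a i * Es r a (s.erase i) :=
  (Finset.mul_prod_erase s (fun x => (X - C (r x)) ^ a x) hi).symm

theorem Ds_erase (s : Finset (Fin m)) (i : Fin m) (hi : i ∈ s) :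
    Ds r a s = (X - C (r i)) ^ (a i + 1) * Ds r a (s.erase i) :=
  (Finset.mul_prod_erase s (fun x => (X - C (r x)) ^ (a x + 1)) hi).symm

theorem Ss_erase (s : Finset (Fin m)) (i : Fin m) (hi : i ∈ s) :
    Ss r a s = (a i : k[X]) * Rs r (s.erase i) + (X - C (r i)) * Ss r a (s.erase i) := by
  classical
  simp only [Ss]
  rw [← Finset.add_sum_erase s _ hi, Finset.mul_sum]
  congr 1
  refine Finset.sum_congr rfl fun j hj => ?_
  have hji : j ≠ i := (Finset.mem_erase.1 hj).1
  have hi' : i ∈ s.erase j := Finset.mem_erase.2 ⟨hji.symm, hi⟩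
  rw [Rs_erase r (s.erase j) i hi', Finset.erase_right_comm]
  ring

theorem Rs_monic (s : Finset (Fin m)) : (Rs r s).Monic :=
  monic_prod_of_monic _ _ fun j _ => monic_X_sub_C (r j)

theorem Es_monic (s : Finset (Fin m)) : (Es r a s).Monic :=
  monic_prod_of_monic _ _ fun j _ => (monic_X_sub_C (r j)).pow _

theorem Rs_natDegree (s : Finset (Fin m)) : (Rs r s).natDegree = s.card := by
  rw [Rs, natDegree_prod_of_monic _ _ fun j _ => monic_X_sub_C (r j)]
  simp

theorem Es_natDegree (s : Finset (Fin m)) : (Es r a s).natDegree = ∑ j ∈ s, a j := by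
  rw [Es, natDegree_prod_of_monic _ _ fun j _ => (monic_X_sub_C (r j)).pow _]
  refine Finset.sum_congr rfl fun j _ => ?_
  rw [(monic_X_sub_C (r j)).natDegree_pow, natDegree_X_sub_C, mul_one]

theorem Rs_eval (s : Finset (Fin m)) (q : k) : (Rs r s).eval q = ∏ j ∈ s, (q - r j) := by
  simp [Rs, eval_prod]

theorem Es_eval (s : Finset (Fin m)) (q : k) : (Es r a s).eval q = ∏ j ∈ s, (q - r j) ^ a j := by
  simp [Es, eval_prod]

theorem Rs_eval_ne_zero (s : Finset (Fin m)) (q : k) (hq : ∀ j ∈ s, q ≠ r j) :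
    (Rs r s).eval q ≠ 0 := by
  rw [Rs_eval, Finset.prod_ne_zero_iff]
  exact fun j hj => sub_ne_zero.2 (hq j hj)

theorem Es_eval_ne_zero (s : Finset (Fin m)) (q : k) (hq : ∀ j ∈ s, q ≠ r j) :
    (Es r a s).eval q ≠ 0 := by
  rw [Es_eval, Finset.prod_ne_zero_iff]
  exact fun j hj => pow_ne_zero _ (sub_ne_zero.2 (hq j hj))

/-- `X * S` has degree at most `|s|` with coefficient `∑ a_j` there. -/
theorem X_mul_Ss_natDegree_le (s : Finset (Fin m)) : (X * Ss r a s).natDegree ≤ s.card := by
  classical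
  rw [Ss, Finset.mul_sum]
  refine natDegree_sum_le_of_forall_le _ _ fun j hj => ?_
  have h1 : (Rs r (s.erase j)).natDegree = s.card - 1 := by
    rw [Rs_natDegree, Finset.card_erase_of_mem hj]
  have hc : 1 ≤ s.card := Finset.card_pos.2 ⟨j, hj⟩
  calc (X * ((a j : k[X]) * Rs r (s.erase j))).natDegree
      ≤ (X : k[X]).natDegree + ((a j : k[X]) * Rs r (s.erase j)).natDegree := natDegree_mul_le
    _ ≤ 1 + ((a j : k[X]).natDegree + (Rs r (s.erase j)).natDegree) :=
        add_le_add natDegree_X_le natDegree_mul_le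
    _ = 1 + (0 + (s.card - 1)) := by rw [natDegree_natCast, h1]
    _ = s.card := by omega

theorem X_mul_Ss_coeff (s : Finset (Fin m)) :
    (X * Ss r a s).coeff s.card = ((∑ j ∈ s, a j : ℕ) : k) := by
  classical
  rw [Ss, Finset.mul_sum, finset_sum_coeff, Nat.cast_sum]
  refine Finset.sum_congr rfl fun j hj => ?_
  have hc : 1 ≤ s.card := Finset.card_pos.2 ⟨j, hj⟩
  have h1 : (Rs r (s.erase j)).natDegree = s.card - 1 := by
    rw [Rs_natDegree, Finset.card_erase_of_mem hj]
  obtain ⟨c, hc'⟩ : ∃ c, s.card = c + 1 := ⟨s.card - 1, by omega⟩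
  rw [hc', coeff_X_mul, ← C_eq_natCast, coeff_C_mul]
  have : (Rs r (s.erase j)).coeff c = 1 := by
    have hm := Rs_monic r (s.erase j)
    have : c = (Rs r (s.erase j)).natDegree := by rw [h1]; omega
    rw [this]; exact hm.coeff_natDegree
  rw [this, mul_one]

/-- The operator `T Q = R Q' - S Q`. -/
noncomputable def T : k[X] →ₗ[k] k[X] :=
  (LinearMap.mulLeft k (Rs r univ)).comp derivative - LinearMap.mulLeft k (Ss r a univ)

theorem T_apply (Q : k[X]) :
    T r a Q = Rs r univ * derivative Q - Ss r a univ * Q := rfl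

theorem T_E_mul (G : k[X]) : T r a (Es r a univ * G) = Ds r a univ * derivative G := by
  rw [T_apply, derivative_mul, Ds_eq]
  have := logderiv r a univ
  linear_combination (G) * this

theorem T_E : T r a (Es r a univ) = 0 := by
  have := T_E_mul r a 1
  simpa using this

theorem T_Ei_mul (i : Fin m) (G : k[X]) :
    T r a (Es r a (univ.erase i) * G) =
      Ds r a (univ.erase i) * ((X - C (r i)) * derivative G - (a i : k[X]) * G) := by
  rw [T_apply, derivative_mul, Ds_eq, Rs_erase r univ i (mem_univ i), Ss_erase r a univ i (mem_univ i)]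
  have := logderiv r a (univ.erase i)
  linear_combination ((X - C (r i)) * G) * this

/-- Expansion of `T` at a marked point. -/
theorem T_pow_mul_marked (i : Fin m) (v : ℕ) (H : k[X]) :
    T r a ((X - C (r i)) ^ v * H) =
      (X - C (r i)) ^ v * (((v : k[X]) - (a i : k[X])) * Rs r (univ.erase i) * H +
        (X - C (r i)) * (Rs r (univ.erase i) * derivative H - Ss r a (univ.erase i) * H)) := by
  rw [T_apply, derivative_mul, derivative_X_sub_C_pow, Rs_erase r univ i (mem_univ i),
    Ss_erase r a univ i (mem_univ i)]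
  rcases Nat.eq_zero_or_pos v with h0 | h0
  · subst h0; simp; ring
  · obtain ⟨n, rfl⟩ : ∃ n, v = n + 1 := ⟨v - 1, by omega⟩
    rw [Nat.add_sub_cancel, pow_succ]
    simp only [map_natCast]
    ring

/-- Expansion of `T` at an arbitrary point. -/
theorem T_pow_mul (q : k) (v : ℕ) (H : k[X]) :
    T r a ((X - C q) ^ (v + 1) * H) =
      (X - C q) ^ v * (((v + 1 : ℕ) : k[X]) * Rs r univ * H +
        (X - C q) * (Rs r univ * derivative H - Ss r a univ * H)) := by
  rw [T_apply, derivative_mul, derivative_X_sub_C_pow, Nat.add_sub_cancel, pow_succ]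
  simp only [map_natCast]
  ring

end Groth.Agent.Lib.Helper2.WronskP1
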