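import Mathlib
import Groth.Agent.Lib.Helper2.WronskP1.Defs
import Groth.Agent.Lib.Helper2.WronskP1.Abstract

/-!
# The three kinds of places: marked points, unmarked points, infinity
-/

namespace Groth.Agent.Lib.Helper2.WronskP1

open Polynomial Finset Module

variable {k : Type*} [Field k]

/-- Polynomials divisible by `(X - c)^n`, as a `k`-subspace. -/
noncomputable def Fdiv (c : k) (n : ℕ) : Submodule k k[X] :=
  (Ideal.span {(X - C c) ^ n}).restrictScalars k

theorem mem_Fdiv {c : k} {n : ℕ} {Q : k[X]} : Q ∈ Fdiv c n ↔ (X - C c) ^ n ∣ Q := by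
  simp [Fdiv, Ideal.mem_span_singleton]

theorem Fdiv_antitone (c : k) : Antitone (Fdiv c) := by
  intro i j hij Q hQ
  rw [mem_Fdiv] at hQ ⊢
  exact (pow_dvd_pow _ hij).trans hQ

theorem Fdiv_zero (c : k) : Fdiv c 0 = ⊤ := by
  ext Q; simp [mem_Fdiv]

theorem mem_degreeLT_iff_coeff {Q : k[X]} {n : ℕ} :
    Q ∈ degreeLT k n ↔ ∀ j, n ≤ j → Q.coeff j = 0 := by
  rw [mem_degreeLT, degree_lt_iff_coeff_zero]

theorem natDegree_le_of_mem_degreeLT {Q : k[X]} {e : ℕ} (h : Q ∈ degreeLT k (e + 1)) :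
    Q.natDegree ≤ e := by
  rw [natDegree_le_iff_coeff_eq_zero]
  intro N hN
  exact mem_degreeLT_iff_coeff.1 h N (by omega)

theorem mem_degreeLT_of_natDegree_le {Q : k[X]} {e : ℕ} (h : Q.natDegree ≤ e) :
    Q ∈ degreeLT k (e + 1) := by
  rw [mem_degreeLT_iff_coeff]
  intro j hj
  exact coeff_eq_zero_of_natDegree_lt (by omega)

theorem mem_degreeLT_pred {Q : k[X]} {e : ℕ} (h : Q ∈ degreeLT k (e + 1)) (h0 : Q.coeff e = 0) :
    Q ∈ degreeLT k e := by
  rw [mem_degreeLT_iff_coeff] at h ⊢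
  intro j hj
  rcases Nat.eq_or_lt_of_le hj with rfl | hlt
  · exact h0
  · exact h j (by omega)

theorem coeff_X_mul_derivative (Q : k[X]) (n : ℕ) :
    (X * derivative Q).coeff n = (n : k) * Q.coeff n := by
  rcases n with _ | n
  · simp
  · rw [coeff_X_mul, coeff_derivative]
    push_cast
    ring

variable {m : ℕ} (r : Fin m → k) (a : Fin m → ℕ)

theorem X_mul_T (Q : k[X]) :
    X * T r a Q = Rs r univ * (X * derivative Q) - (X * Ss r a univ) * Q := by
  rw [T_apply]; ring

theorem natDegree_X_mul_T_le (Q : k[X]) (e : ℕ) (hQ : Q ∈ degreeLT k (e + 1)) :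
    (X * T r a Q).natDegree ≤ m + e := by
  have hQe := natDegree_le_of_mem_degreeLT hQ
  rw [X_mul_T]
  have h1 : (X * derivative Q).natDegree ≤ e := by
    rw [natDegree_le_iff_coeff_eq_zero]
    intro N hN
    rw [coeff_X_mul_derivative, coeff_eq_zero_of_natDegree_lt (by omega), mul_zero]
  have hR : (Rs r univ).natDegree = m := by rw [Rs_natDegree]; simp
  have hS : (X * Ss r a univ).natDegree ≤ m := by
    have := X_mul_Ss_natDegree_le r a univ
    simpa using this
  refine (natDegree_sub_le _ _).trans (max_le ?_ ?_)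
  · exact natDegree_mul_le.trans (by omega)
  · exact natDegree_mul_le.trans (by omega)

theorem coeff_X_mul_T (Q : k[X]) (e : ℕ) (hQ : Q ∈ degreeLT k (e + 1)) :
    (X * T r a Q).coeff (m + e) = ((e : k) - ((∑ j, a j : ℕ) : k)) * Q.coeff e := by
  have hQe := natDegree_le_of_mem_degreeLT hQ
  rw [X_mul_T, coeff_sub]
  have h1 : (X * derivative Q).natDegree ≤ e := by
    rw [natDegree_le_iff_coeff_eq_zero]
    intro N hN
    rw [coeff_X_mul_derivative, coeff_eq_zero_of_natDegree_lt (by omega), mul_zero]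
  have hR : (Rs r univ).natDegree ≤ m := by rw [Rs_natDegree]; simp
  have hS : (X * Ss r a univ).natDegree ≤ m := by
    have := X_mul_Ss_natDegree_le r a univ
    simpa using this
  rw [coeff_mul_add_eq_of_natDegree_le hR h1, coeff_mul_add_eq_of_natDegree_le hS hQe, coeff_X_mul_derivative]
  have hRc : (Rs r univ).coeff m = 1 := by
    have h := (Rs_monic r univ).coeff_natDegree
    rw [Rs_natDegree] at h
    simpa using h
  have hSc : (X * Ss r a univ).coeff m = ((∑ j, a j : ℕ) : k) := by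
    have := X_mul_Ss_coeff r a univ
    simpa using this
  rw [hRc, hSc]
  ring

theorem T_mem_degreeLT (Q : k[X]) (e : ℕ) (hQ : Q ∈ degreeLT k (e + 1)) :
    T r a Q ∈ degreeLT k (m + e) := by
  rw [mem_degreeLT_iff_coeff]
  intro j hj
  have h1 := natDegree_X_mul_T_le r a Q e hQ
  have : (X * T r a Q).coeff (j + 1) = 0 := coeff_eq_zero_of_natDegree_lt (by omega)
  rwa [coeff_X_mul] at this

variable [CharZero k]

/-- Lowering the degree bound: if `T Q` has no term in degree `m + e - 1` and `e ≠ ∑ a_j`. -/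
theorem coeff_eq_zero_of_T (Q : k[X]) (e : ℕ) (hQ : Q ∈ degreeLT k (e + 1))
    (he : e ≠ ∑ j, a j) (hT : (X * T r a Q).coeff (m + e) = 0) : Q.coeff e = 0 := by
  rw [coeff_X_mul_T r a Q e hQ] at hT
  rcases mul_eq_zero.1 hT with h | h
  · exfalso
    apply he
    have : (e : k) = ((∑ j, a j : ℕ) : k) := sub_eq_zero.1 h
    exact_mod_cast this
  · exact h

omit [CharZero k] in
theorem E_ne_zero : Es r a univ ≠ 0 := (Es_monic r a univ).ne_zero

omit [CharZero k] in
theorem E_mem_degreeLT : Es r a univ ∈ degreeLT k ((∑ j, a j) + 1) :=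
  mem_degreeLT_of_natDegree_le (by rw [Es_natDegree])

omit [CharZero k] in
theorem E_coeff : (Es r a univ).coeff (∑ j, a j) = 1 := by
  have := (Es_monic r a univ).coeff_natDegree
  rwa [Es_natDegree] at this

theorem sub_E_mem (Q : k[X]) (hQ : Q ∈ degreeLT k ((∑ j, a j) + 1)) :
    Q - Q.coeff (∑ j, a j) • Es r a univ ∈ degreeLT k (∑ j, a j) := by
  apply mem_degreeLT_pred
  · exact Submodule.sub_mem _ hQ (Submodule.smul_mem _ _ (E_mem_degreeLT r a))
  · rw [coeff_sub, coeff_smul, E_coeff, smul_eq_mul, mul_one, sub_self]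

theorem down (Q : k[X]) (hT : T r a Q = 0) (lo : ℕ) :
    ∀ j, Q ∈ degreeLT k (lo + j) → (∀ e', lo ≤ e' → e' < lo + j → e' ≠ ∑ j, a j) →
      Q ∈ degreeLT k lo := by
  intro j
  induction j with
  | zero => intro h _; exact h
  | succ j ih =>
    intro h hne
    apply ih
    · apply mem_degreeLT_pred h
      apply coeff_eq_zero_of_T r a Q (lo + j) h (hne _ (by omega) (by omega))
      rw [hT, mul_zero, coeff_zero]
    · intro e' h1 h2
      exact hne e' h1 (by omega)

theorem ker_T (Q : k[X]) (hT : T r a Q = 0) : ∃ c : k, Q = c • Es r a univ := by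
  have hlow : ∀ Q : k[X], T r a Q = 0 → Q ∈ degreeLT k (∑ j, a j) → Q = 0 := by
    intro Q hT hQ
    have h0 : Q ∈ degreeLT k 0 := by
      apply down r a Q hT 0 (∑ j, a j)
      · rwa [zero_add]
      · intro e' _ h2; omega
    rw [mem_degreeLT_iff_coeff] at h0
    ext n
    rw [h0 n (Nat.zero_le _), coeff_zero]
  have hmid : Q ∈ degreeLT k ((∑ j, a j) + 1) := by
    rcases Nat.lt_or_ge Q.natDegree ((∑ j, a j) + 1) with h | h
    · exact degreeLT_mono (by omega) (mem_degreeLT_of_natDegree_le le_rfl)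
    · have : Q ∈ degreeLT k ((∑ j, a j) + 1 + (Q.natDegree + 1 - ((∑ j, a j) + 1))) := by
        have : (∑ j, a j) + 1 + (Q.natDegree + 1 - ((∑ j, a j) + 1)) = Q.natDegree + 1 := by omega
        rw [this]; exact mem_degreeLT_of_natDegree_le le_rfl
      apply down r a Q hT _ _ this
      intro e' h1 _; omega
  refine ⟨Q.coeff (∑ j, a j), ?_⟩
  have h2 := sub_E_mem r a Q hmid
  have h3 : T r a (Q - Q.coeff (∑ j, a j) • Es r a univ) = 0 := by
    rw [map_sub, map_smul, T_E, hT, smul_zero, sub_zero]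
  exact sub_eq_zero.1 (hlow _ h3 h2)

end Groth.Agent.Lib.Helper2.WronskP1
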