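import Mathlib
import Groth.Agent.Lib.Helper2.WronskP1.Places

/-!
# The vanishing filtrations of `V = T(L)` at the three kinds of places
-/

namespace Groth.Agent.Lib.Helper2.WronskP1

open Polynomial Finset Module

variable {k : Type*} [Field k] [CharZero k] {m : ℕ} (r : Fin m → k) (a : Fin m → ℕ)

theorem mem_degreeLT_zero {Q : k[X]} (h : Q ∈ degreeLT k 0) : Q = 0 := by
  rw [mem_degreeLT_iff_coeff] at h
  ext n
  rw [h n (Nat.zero_le _), coeff_zero]

theorem place_top (b N d : ℕ) (hN : N = (∑ j, a j) + b) (hd : d + 1 = N + m) (n : ℕ) :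
    (degreeLT k (N + 1)).map (T r a) ⊓ degreeLT k (d + 1 - n) =
      (degreeLT k (N + 1 - n)).map (T r a) := by
  have := inf_eq_map_of_filt (T r a) (Es r a univ) (T_E r a)
    (fun v => degreeLT k (N + 1 - v)) (fun n => degreeLT k (d + 1 - n))
    (fun i j hij => degreeLT_mono (by omega)) (fun i j hij => degreeLT_mono (by omega)) b 0
    ?_ ?_ ?_ n
  · simpa using this
  · -- ha
    intro n Q hQ
    simp only [add_zero] at hQ
    rcases Nat.lt_or_ge N n with hlt | hge
    · have : N + 1 - n = 0 := by omega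
      rw [this] at hQ
      rw [mem_degreeLT_zero hQ, map_zero]; exact Submodule.zero_mem _
    · have e1 : N + 1 - n = (N - n) + 1 := by omega
      rw [e1] at hQ
      have := T_mem_degreeLT r a Q (N - n) hQ
      have e2 : d + 1 - n = m + (N - n) := by omega
      rw [e2]; exact this
  · -- hb
    intro v hv Q hQ hTQ
    simp only [Nat.sub_zero] at hTQ
    rcases Nat.lt_or_ge N v with hlt | hge
    · have : N + 1 - v = 0 := by omega
      rw [this] at hQ
      rw [mem_degreeLT_zero hQ]; exact Submodule.zero_mem _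
    · have e1 : N + 1 - v = (N - v) + 1 := by omega
      rw [e1] at hQ
      have e2 : N + 1 - (v + 1) = N - v := by omega
      rw [e2]
      apply mem_degreeLT_pred hQ
      have hne : N - v ≠ ∑ j, a j := by omega
      apply coeff_eq_zero_of_T r a Q (N - v) hQ hne
      have hpos : 1 ≤ m + (N - v) := by
        by_contra hcon
        have hm0 : m = 0 := by omega
        subst hm0
        have : (∑ j : Fin 0, a j) = 0 := by simp
        omega
      obtain ⟨j, hj⟩ : ∃ j, m + (N - v) = j + 1 := ⟨m + (N - v) - 1, by omega⟩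
      rw [hj, coeff_X_mul]
      rw [mem_degreeLT_iff_coeff] at hTQ
      exact hTQ j (by omega)
  · -- hc
    intro Q hQ
    refine ⟨Q.coeff (∑ j, a j), ?_⟩
    have e1 : N + 1 - b = (∑ j, a j) + 1 := by omega
    have e2 : N + 1 - (b + 1) = ∑ j, a j := by omega
    rw [e1] at hQ
    rw [e2]
    exact sub_E_mem r a Q hQ

theorem E_mem_L (N : ℕ) (hN : ∑ j, a j ≤ N) : Es r a univ ∈ degreeLT k (N + 1) :=
  degreeLT_mono (by omega) (E_mem_degreeLT r a)

theorem place_marked (hr : Function.Injective r) (N : ℕ) (hN : ∑ j, a j ≤ N) (i : Fin m) (n : ℕ) :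
    (degreeLT k (N + 1)).map (T r a) ⊓ Fdiv (r i) n =
      (degreeLT k (N + 1) ⊓ Fdiv (r i) n).map (T r a) := by
  have hEj : (Es r a (univ.erase i)).eval (r i) ≠ 0 :=
    Es_eval_ne_zero r a _ _ fun j hj => fun h => (Finset.mem_erase.1 hj).1 (hr h).symm
  have hRj : (Rs r (univ.erase i)).eval (r i) ≠ 0 :=
    Rs_eval_ne_zero r _ _ fun j hj => fun h => (Finset.mem_erase.1 hj).1 (hr h).symm
  have := inf_eq_map_of_filt (T r a) (Es r a univ) (T_E r a)
    (fun v => degreeLT k (N + 1) ⊓ Fdiv (r i) v) (fun n => Fdiv (r i) n)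
    (fun i' j hij => inf_le_inf_left _ (Fdiv_antitone _ hij)) (Fdiv_antitone _) (a i) 0
    ?_ ?_ ?_ n
  · simpa [Fdiv_zero] using this
  · intro n Q hQ
    simp only [add_zero] at hQ
    obtain ⟨H, rfl⟩ := mem_Fdiv.1 hQ.2
    rw [mem_Fdiv, T_pow_mul_marked]
    exact dvd_mul_right _ _
  · intro v hv Q hQ hTQ
    simp only [Nat.sub_zero] at hTQ
    obtain ⟨H, rfl⟩ := mem_Fdiv.1 hQ.2
    refine ⟨hQ.1, ?_⟩
    rw [mem_Fdiv, T_pow_mul_marked, pow_succ,
      mul_dvd_mul_iff_left (pow_ne_zero v (X_sub_C_ne_zero (r i)))] at hTQ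
    show _ ∈ Fdiv (r i) (v + 1)
    rw [mem_Fdiv, pow_succ]
    apply mul_dvd_mul_left
    have h1 := (dvd_add_left (dvd_mul_right (X - C (r i)) _)).1 hTQ
    rw [dvd_iff_isRoot, IsRoot.def] at h1 ⊢
    simp only [eval_mul, eval_sub, eval_natCast] at h1
    rcases mul_eq_zero.1 h1 with h2 | h2
    · rcases mul_eq_zero.1 h2 with h3 | h3
      · exfalso
        apply hv
        have : (v : k) = (a i : k) := sub_eq_zero.1 h3
        exact_mod_cast this
      · exact absurd h3 hRj
    · exact h2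
  · intro Q hQ
    obtain ⟨H, rfl⟩ := mem_Fdiv.1 hQ.2
    refine ⟨H.eval (r i) / (Es r a (univ.erase i)).eval (r i), ?_, ?_⟩
    · exact Submodule.sub_mem _ hQ.1 (Submodule.smul_mem _ _ (E_mem_L r a N hN))
    · show _ ∈ Fdiv (r i) (a i + 1)
      rw [mem_Fdiv, Es_erase r a univ i (mem_univ i), pow_succ]
      have : (X - C (r i)) ^ a i * H -
          (H.eval (r i) / (Es r a (univ.erase i)).eval (r i)) •
            ((X - C (r i)) ^ a i * Es r a (univ.erase i)) =
          (X - C (r i)) ^ a i * (H - C (H.eval (r i) / (Es r a (univ.erase i)).eval (r i)) *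
            Es r a (univ.erase i)) := by
        rw [smul_eq_C_mul]; ring
      rw [this]
      apply mul_dvd_mul_left
      rw [dvd_iff_isRoot, IsRoot.def]
      simp only [eval_sub, eval_mul, eval_C]
      rw [div_mul_cancel₀ _ hEj, sub_self]

theorem place_unmarked (N : ℕ) (hN : ∑ j, a j ≤ N) (q : k) (hq : ∀ j, q ≠ r j) (n : ℕ) :
    (degreeLT k (N + 1)).map (T r a) ⊓ Fdiv q n =
      (degreeLT k (N + 1) ⊓ Fdiv q (n + 1)).map (T r a) := by
  have hE : (Es r a univ).eval q ≠ 0 := Es_eval_ne_zero r a _ _ fun j _ => hq j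
  have hR : (Rs r univ).eval q ≠ 0 := Rs_eval_ne_zero r _ _ fun j _ => hq j
  have := inf_eq_map_of_filt (T r a) (Es r a univ) (T_E r a)
    (fun v => degreeLT k (N + 1) ⊓ Fdiv q v) (fun n => Fdiv q n)
    (fun i' j hij => inf_le_inf_left _ (Fdiv_antitone _ hij)) (Fdiv_antitone _) 0 1
    ?_ ?_ ?_ n
  · simpa [Fdiv_zero] using this
  · intro n Q hQ
    obtain ⟨H, rfl⟩ := mem_Fdiv.1 hQ.2
    rw [mem_Fdiv, T_pow_mul]
    exact dvd_mul_right _ _
  · intro v hv Q hQ hTQ
    obtain ⟨w, rfl⟩ : ∃ w, v = w + 1 := ⟨v - 1, by omega⟩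
    simp only [Nat.add_sub_cancel] at hTQ
    obtain ⟨H, rfl⟩ := mem_Fdiv.1 hQ.2
    refine ⟨hQ.1, ?_⟩
    rw [mem_Fdiv, T_pow_mul, pow_succ,
      mul_dvd_mul_iff_left (pow_ne_zero w (X_sub_C_ne_zero q))] at hTQ
    show _ ∈ Fdiv q (w + 1 + 1)
    rw [mem_Fdiv, pow_succ (X - C q) (w + 1)]
    apply mul_dvd_mul_left
    have h1 := (dvd_add_left (dvd_mul_right (X - C q) _)).1 hTQ
    rw [dvd_iff_isRoot, IsRoot.def] at h1 ⊢
    simp only [eval_mul, eval_natCast] at h1
    rcases mul_eq_zero.1 h1 with h2 | h2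
    · rcases mul_eq_zero.1 h2 with h3 | h3
      · exfalso
        have : ((w + 1 : ℕ) : k) ≠ 0 := Nat.cast_ne_zero.2 (Nat.succ_ne_zero w)
        exact this h3
      · exact absurd h3 hR
    · exact h2
  · intro Q hQ
    refine ⟨Q.eval q / (Es r a univ).eval q, ?_, ?_⟩
    · exact Submodule.sub_mem _ hQ.1 (Submodule.smul_mem _ _ (E_mem_L r a N hN))
    · show _ ∈ Fdiv q (0 + 1)
      rw [mem_Fdiv, zero_add, pow_one, dvd_iff_isRoot, IsRoot.def, eval_sub, eval_smul, smul_eq_mul,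
        div_mul_cancel₀ _ hE, sub_self]

end Groth.Agent.Lib.Helper2.WronskP1
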