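import Mathlib
import Groth.Agent.Lib.Helper2.WronskP1.Places2

/-!
# The span of the generators `D·k[X]_{<b'}` and `D_i·k[X]_{<a_i}` equals `T(k[X]_{≤ s + b'})`
-/

namespace Groth.Agent.Lib.Helper2.WronskP1

open Polynomial Finset Module

variable {k : Type*} [Field k] [CharZero k] {m : ℕ} (r : Fin m → k) (a : Fin m → ℕ)

/-- The span of the generators. -/
noncomputable def U (b' : ℕ) : Submodule k k[X] :=
  (degreeLT k b').map (LinearMap.mulLeft k (Ds r a univ)) ⊔
    ⨆ i, (degreeLT k (a i)).map (LinearMap.mulLeft k (Ds r a (univ.erase i)))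

theorem finrank_degreeLT (n : ℕ) : finrank k (degreeLT k n) = n := by
  rw [(degreeLTEquiv k n).finrank_eq, Module.finrank_fin_fun]

theorem exists_antiderivative (b' : ℕ) (P : k[X]) (hP : P ∈ degreeLT k b') :
    ∃ G ∈ degreeLT k (b' + 1), derivative G = P := by
  refine ⟨∑ n ∈ range b', C (P.coeff n / ((n : k) + 1)) * X ^ (n + 1), ?_, ?_⟩
  · refine Submodule.sum_mem _ fun n hn => ?_
    rw [mem_degreeLT]
    refine lt_of_le_of_lt (degree_C_mul_X_pow_le _ _) ?_
    have := Finset.mem_range.1 hn
    exact_mod_cast (by omega : n + 1 < b' + 1)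
  · ext n
    rw [coeff_derivative, finset_sum_coeff]
    simp only [coeff_C_mul, coeff_X_pow]
    by_cases hn : n < b'
    · rw [Finset.sum_eq_single n]
      · rw [if_pos rfl, mul_one]
        have : ((n : k) + 1) ≠ 0 := by exact_mod_cast Nat.succ_ne_zero n
        field_simp
      · intro j _ hj
        rw [if_neg (by omega), mul_zero]
      · intro h; exact absurd (Finset.mem_range.2 hn) h
    · rw [Finset.sum_eq_zero, zero_mul, mem_degreeLT_iff_coeff.1 hP n (by omega)]
      intro j hj
      have := Finset.mem_range.1 hj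
      rw [if_neg (by omega), mul_zero]

/-- The operator `G ↦ (X - c) G' - e G` is bijective on `k[X]_{<e}`. -/
theorem exists_lam (c : k) (e : ℕ) (P : k[X]) (hP : P ∈ degreeLT k e) :
    ∃ G ∈ degreeLT k e, (X - C c) * derivative G - (e : k[X]) * G = P := by
  let Λ' : k[X] →ₗ[k] k[X] :=
    (LinearMap.mulLeft k (X - C c)).comp derivative - LinearMap.mulLeft k (e : k[X])
  have hΛ' : ∀ G, Λ' G = (X - C c) * derivative G - (e : k[X]) * G := fun G => rfl
  have hcoef : ∀ G : k[X], ∀ n, (Λ' G).coeff n =
      ((n : k) - e) * G.coeff n - c * ((n : k) + 1) * G.coeff (n + 1) := by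
    intro G n
    rw [hΛ', coeff_sub, sub_mul, coeff_sub, coeff_C_mul, ← C_eq_natCast, coeff_C_mul,
      coeff_derivative]
    have : (X * derivative G).coeff n = (n : k) * G.coeff n := coeff_X_mul_derivative G n
    rw [this]; ring
  have hmaps : ∀ G ∈ degreeLT k e, Λ' G ∈ degreeLT k e := by
    intro G hG
    rw [mem_degreeLT_iff_coeff] at hG ⊢
    intro j hj
    rw [hcoef, hG j hj, hG (j + 1) (by omega)]; ring
  let Λ : degreeLT k e →ₗ[k] degreeLT k e := Λ'.restrict hmaps
  have hinj : Function.Injective Λ := by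
    rw [injective_iff_map_eq_zero]
    intro G hG
    by_contra hne
    have hG0 : (G : k[X]) ≠ 0 := fun h => hne (Subtype.ext h)
    have h1 : (Λ' G).coeff (G : k[X]).natDegree = 0 := by
      have : Λ' G = 0 := congrArg Subtype.val hG
      rw [this, coeff_zero]
    rw [hcoef, coeff_eq_zero_of_natDegree_lt (Nat.lt_succ_self _), mul_zero, sub_zero] at h1
    have hlt : (G : k[X]).natDegree < e := by
      have := mem_degreeLT.1 G.2
      exact (natDegree_lt_iff_degree_lt hG0).2 this
    rcases mul_eq_zero.1 h1 with h2 | h2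
    · have : ((G : k[X]).natDegree : k) = (e : k) := sub_eq_zero.1 h2
      have : (G : k[X]).natDegree = e := by exact_mod_cast this
      omega
    · exact hG0 (leadingCoeff_eq_zero.1 h2)
  obtain ⟨G, hG⟩ := (LinearMap.injective_iff_surjective.1 hinj) ⟨P, hP⟩
  exact ⟨G.1, G.2, congrArg Subtype.val hG⟩

theorem Ei_natDegree (i : Fin m) :
    (Es r a (univ.erase i)).natDegree + a i = ∑ j, a j := by
  rw [Es_natDegree, Finset.sum_erase_add _ _ (mem_univ i)]

theorem U_le (b' : ℕ) : U r a b' ≤ (degreeLT k ((∑ j, a j) + b' + 1)).map (T r a) := by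
  refine sup_le ?_ (iSup_le fun i => ?_)
  · rintro _ ⟨P, hP, rfl⟩
    obtain ⟨G, hG, hGP⟩ := exists_antiderivative b' P hP
    refine ⟨Es r a univ * G, ?_, ?_⟩
    · apply mem_degreeLT_of_natDegree_le
      have h1 := natDegree_le_of_mem_degreeLT hG
      refine natDegree_mul_le.trans ?_
      rw [Es_natDegree]; omega
    · rw [T_E_mul, hGP]; rfl
  · rintro _ ⟨P, hP, rfl⟩
    obtain ⟨G, hG, hGP⟩ := exists_lam (r i) (a i) P hP
    refine ⟨Es r a (univ.erase i) * G, ?_, ?_⟩
    · rcases Nat.eq_zero_or_pos (a i) with h0 | h0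
      · rw [h0] at hG
        rw [mem_degreeLT_zero hG, mul_zero]; exact Submodule.zero_mem _
      · obtain ⟨e, he⟩ : ∃ e, a i = e + 1 := ⟨a i - 1, by omega⟩
        rw [he] at hG
        apply mem_degreeLT_of_natDegree_le
        have h1 := natDegree_le_of_mem_degreeLT hG
        have h2 := Ei_natDegree r a i
        refine natDegree_mul_le.trans ?_
        omega
    · rw [T_Ei_mul, hGP]; rfl

theorem finrank_map_T_L (n : ℕ) (hn : ∑ j, a j ≤ n) :
    finrank k ((degreeLT k (n + 1)).map (T r a)) = n := by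
  have := finrank_map_of_mem (T r a) (Es r a univ) (E_ne_zero r a) (T_E r a) (ker_T r a)
    (degreeLT k (n + 1)) (E_mem_L r a n hn)
  rw [finrank_degreeLT] at this
  omega

theorem E_not_mem_degreeLT (n : ℕ) (hn : n ≤ ∑ j, a j) : Es r a univ ∉ degreeLT k n := by
  intro h
  have := mem_degreeLT_iff_coeff.1 h _ hn
  rw [E_coeff] at this
  exact one_ne_zero this

theorem finrank_map_T_L' (n : ℕ) (hn : n ≤ ∑ j, a j) :
    finrank k ((degreeLT k n).map (T r a)) = n := by
  have := finrank_map_of_not_mem (T r a) (Es r a univ) (ker_T r a)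
    (degreeLT k n) (E_not_mem_degreeLT r a n hn)
  rw [finrank_degreeLT] at this
  exact this

theorem le_finrank_U (hr : Function.Injective r) (b' : ℕ) :
    (∑ j, a j) + b' ≤ finrank k (U r a b') := by
  classical
  let Φ : (degreeLT k b' × (∀ i, degreeLT k (a i))) →ₗ[k] k[X] :=
    ((LinearMap.mulLeft k (Ds r a univ)).comp (degreeLT k b').subtype).coprod
      (∑ i, ((LinearMap.mulLeft k (Ds r a (univ.erase i))).comp (degreeLT k (a i)).subtype).comp
        (LinearMap.proj i))
  have hΦ : ∀ x, Φ x = Ds r a univ * x.1.1 + ∑ i, Ds r a (univ.erase i) * (x.2 i).1 := by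
    intro x
    simp [Φ, LinearMap.coprod_apply, LinearMap.sum_apply]
  have hrange : LinearMap.range Φ ≤ U r a b' := by
    rintro _ ⟨x, rfl⟩
    rw [hΦ]
    refine Submodule.add_mem _ (Submodule.mem_sup_left ⟨x.1.1, x.1.2, rfl⟩)
      (Submodule.sum_mem _ fun i _ => Submodule.mem_sup_right ?_)
    exact Submodule.mem_iSup_of_mem i ⟨(x.2 i).1, (x.2 i).2, rfl⟩
  have hinj : Function.Injective Φ := by
    rw [injective_iff_map_eq_zero]
    intro x hx
    rw [hΦ] at hx
    have hPi : ∀ i, x.2 i = 0 := by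
      intro i
      have hdvd : (X - C (r i)) ^ (a i + 1) ∣ Ds r a (univ.erase i) * (x.2 i).1 := by
        have h1 : (X - C (r i)) ^ (a i + 1) ∣ Ds r a univ * x.1.1 := by
          rw [Ds_erase r a univ i (mem_univ i), mul_assoc]; exact dvd_mul_right _ _
        have h2 : ∀ j ∈ univ.erase i, (X - C (r i)) ^ (a i + 1) ∣
            Ds r a (univ.erase j) * (x.2 j).1 := by
          intro j hj
          have hji : j ≠ i := (Finset.mem_erase.1 hj).1
          have : i ∈ univ.erase j := Finset.mem_erase.2 ⟨hji.symm, mem_univ i⟩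
          exact Dvd.dvd.mul_right (Finset.dvd_prod_of_mem _ this) _
        have h3 : Ds r a (univ.erase i) * (x.2 i).1 =
            0 - Ds r a univ * x.1.1 - ∑ j ∈ univ.erase i, Ds r a (univ.erase j) * (x.2 j).1 := by
          rw [← hx, ← Finset.add_sum_erase univ _ (mem_univ i)]; ring
        rw [h3]
        exact dvd_sub (dvd_sub (dvd_zero _) h1) (Finset.dvd_sum h2)
      have hcop : IsCoprime ((X - C (r i)) ^ (a i + 1)) (Ds r a (univ.erase i)) := by
        apply IsCoprime.pow_left
        rw [(irreducible_X_sub_C (r i)).coprime_iff_not_dvd, dvd_iff_isRoot, IsRoot.def]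
        simp only [Ds, eval_prod, eval_pow, eval_sub, eval_X, eval_C]
        rw [Finset.prod_eq_zero_iff]
        rintro ⟨j, hj, h0⟩
        have hji : j ≠ i := (Finset.mem_erase.1 hj).1
        exact hji (hr (sub_eq_zero.1 (pow_eq_zero_iff (Nat.succ_ne_zero _) |>.1 h0))).symm
      have h4 := hcop.dvd_of_dvd_mul_left hdvd
      by_contra hne
      have hne' : (x.2 i : k[X]) ≠ 0 := fun h => hne (Subtype.ext h)
      have h5 := natDegree_le_of_dvd h4 hne'
      rw [(monic_X_sub_C (r i)).natDegree_pow, natDegree_X_sub_C, mul_one] at h5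
      have h6 := (natDegree_lt_iff_degree_lt hne').2 (mem_degreeLT.1 (x.2 i).2)
      omega
    have hP : x.1 = 0 := by
      have : Ds r a univ * x.1.1 = 0 := by
        have h0 : ∑ i, Ds r a (univ.erase i) * (x.2 i).1 = 0 :=
          Finset.sum_eq_zero fun i _ => by rw [hPi i]; simp
        rw [h0, add_zero] at hx; exact hx
      have hD : Ds r a univ ≠ 0 :=
        (monic_prod_of_monic _ _ fun j _ => (monic_X_sub_C (r j)).pow _).ne_zero
      exact Subtype.ext ((mul_eq_zero.1 this).resolve_left hD)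
    exact Prod.ext hP (funext hPi)
  have hfinU : FiniteDimensional k (U r a b') :=
    Submodule.finiteDimensional_of_le (U_le r a b')
  have h1 : finrank k (LinearMap.range Φ) ≤ finrank k (U r a b') := Submodule.finrank_mono hrange
  rw [LinearMap.finrank_range_of_inj hinj, Module.finrank_prod, Module.finrank_pi_fintype,
    finrank_degreeLT] at h1
  simp only [finrank_degreeLT] at h1
  omega

theorem U_eq (hr : Function.Injective r) (b' : ℕ) :
    U r a b' = (degreeLT k ((∑ j, a j) + b' + 1)).map (T r a) := by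
  apply Submodule.eq_of_le_of_finrank_le (U_le r a b')
  rw [finrank_map_T_L r a _ (by omega)]
  exact le_finrank_U r a hr b'

end Groth.Agent.Lib.Helper2.WronskP1
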