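import Mathlib
import Groth.Agent.Lib.Helper2.WronskP1.Gens

/-!
# Dimensions of the vanishing filtrations of `V`
-/

namespace Groth.Agent.Lib.Helper2.WronskP1

open Polynomial Finset Module

variable {k : Type*} [Field k] [CharZero k] {m : ℕ} (r : Fin m → k) (a : Fin m → ℕ)

theorem degreeLT_inf_Fdiv (N n : ℕ) (c : k) :
    degreeLT k (N + 1) ⊓ Fdiv c n =
      (degreeLT k (N + 1 - n)).map (LinearMap.mulLeft k ((X - C c) ^ n)) := by
  have hmonic : ((X - C c) ^ n).Monic := (monic_X_sub_C c).pow n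
  have hdeg : ((X - C c) ^ n).natDegree = n := by
    rw [(monic_X_sub_C c).natDegree_pow, natDegree_X_sub_C, mul_one]
  apply le_antisymm
  · rintro Q ⟨hQ1, hQ2⟩
    obtain ⟨H, rfl⟩ := mem_Fdiv.1 hQ2
    refine ⟨H, ?_, rfl⟩
    by_cases hH : H = 0
    · rw [hH]; exact Submodule.zero_mem _
    · have h1 := natDegree_le_of_mem_degreeLT hQ1
      rw [hmonic.natDegree_mul' hH, hdeg] at h1
      have : N + 1 - n = (N - n) + 1 := by omega
      rw [this]
      exact mem_degreeLT_of_natDegree_le (by omega)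
  · rintro _ ⟨H, hH, rfl⟩
    refine ⟨?_, mem_Fdiv.2 (dvd_mul_right _ _)⟩
    rcases Nat.lt_or_ge N n with hlt | hge
    · have : N + 1 - n = 0 := by omega
      rw [this] at hH
      rw [mem_degreeLT_zero hH]
      simp
    · have : N + 1 - n = (N - n) + 1 := by omega
      rw [this] at hH
      have h1 := natDegree_le_of_mem_degreeLT hH
      apply mem_degreeLT_of_natDegree_le
      show ((X - C c) ^ n * H).natDegree ≤ N
      refine natDegree_mul_le.trans ?_
      rw [hdeg]; omega

theorem finrank_degreeLT_inf_Fdiv (N n : ℕ) (c : k) :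
    finrank k ↥(degreeLT k (N + 1) ⊓ Fdiv c n) = N + 1 - n := by
  rw [degreeLT_inf_Fdiv]
  have hinj : Function.Injective (LinearMap.mulLeft k ((X - C c) ^ n)) := by
    intro x y hxy
    exact mul_left_cancel₀ (pow_ne_zero n (X_sub_C_ne_zero c)) hxy
  rw [← (Submodule.equivMapOfInjective _ hinj (degreeLT k (N + 1 - n))).finrank_eq,
    finrank_degreeLT]

omit [CharZero k] in
theorem E_mem_Fdiv_marked (hr : Function.Injective r) (i : Fin m) (n : ℕ) :
    Es r a univ ∈ Fdiv (r i) n ↔ n ≤ a i := by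
  rw [mem_Fdiv]
  constructor
  · intro h
    by_contra hlt
    push Not at hlt
    have h1 : (X - C (r i)) ^ (a i + 1) ∣ Es r a univ := (pow_dvd_pow _ (by omega)).trans h
    rw [Es_erase r a univ i (mem_univ i), pow_succ,
      mul_dvd_mul_iff_left (pow_ne_zero _ (X_sub_C_ne_zero (r i))), dvd_iff_isRoot, IsRoot.def] at h1
    exact Es_eval_ne_zero r a _ _ (fun j hj => fun h => (Finset.mem_erase.1 hj).1 (hr h).symm) h1
  · intro h
    rw [Es_erase r a univ i (mem_univ i)]
    exact Dvd.dvd.mul_right (pow_dvd_pow _ h) _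

omit [CharZero k] in
theorem E_not_mem_Fdiv_unmarked (q : k) (hq : ∀ j, q ≠ r j) (n : ℕ) :
    Es r a univ ∉ Fdiv q (n + 1) := by
  rw [mem_Fdiv]
  intro h
  have h1 : (X - C q) ∣ Es r a univ := (dvd_pow_self _ (Nat.succ_ne_zero n)).trans h
  rw [dvd_iff_isRoot, IsRoot.def] at h1
  exact Es_eval_ne_zero r a _ _ (fun j _ => hq j) h1

theorem finrank_V (hr : Function.Injective r) (b : ℕ) :
    finrank k (U r a b) = (∑ j, a j) + b := by
  rw [U_eq r a hr, finrank_map_T_L r a _ (by omega)]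

theorem finrank_V_inf_marked (hr : Function.Injective r) (b N : ℕ) (hN : N = (∑ j, a j) + b)
    (i : Fin m) (n : ℕ) :
    finrank k ↥(U r a b ⊓ Fdiv (r i) n) = if n ≤ a i then N - n else N + 1 - n := by
  have hai : a i ≤ ∑ j, a j := Finset.single_le_sum (fun _ _ => Nat.zero_le _) (mem_univ i)
  rw [U_eq r a hr, ← hN, place_marked r a hr N (by omega)]
  split_ifs with h
  · have := finrank_map_of_mem (T r a) (Es r a univ) (E_ne_zero r a) (T_E r a) (ker_T r a)
      (degreeLT k (N + 1) ⊓ Fdiv (r i) n)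
      ⟨E_mem_L r a N (by omega), (E_mem_Fdiv_marked r a hr i n).2 h⟩
    rw [finrank_degreeLT_inf_Fdiv] at this
    omega
  · have := finrank_map_of_not_mem (T r a) (Es r a univ) (ker_T r a)
      (degreeLT k (N + 1) ⊓ Fdiv (r i) n)
      (fun hE => h ((E_mem_Fdiv_marked r a hr i n).1 hE.2))
    rw [finrank_degreeLT_inf_Fdiv] at this
    exact this

theorem finrank_V_inf_top (hr : Function.Injective r) (b N d : ℕ) (hN : N = (∑ j, a j) + b)
    (hd : d + 1 = N + m) (n : ℕ) :
    finrank k ↥(U r a b ⊓ degreeLT k (d + 1 - n)) = if n ≤ b then N - n else N + 1 - n := by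
  rw [U_eq r a hr, ← hN, place_top r a b N d hN hd]
  split_ifs with h
  · have e1 : N + 1 - n = (N - n) + 1 := by omega
    rw [e1, finrank_map_T_L r a _ (by omega)]
  · rw [finrank_map_T_L' r a _ (by omega)]

theorem finrank_V_inf_unmarked (hr : Function.Injective r) (b N : ℕ) (hN : N = (∑ j, a j) + b)
    (q : k) (hq : ∀ j, q ≠ r j) (n : ℕ) :
    finrank k ↥(U r a b ⊓ Fdiv q n) = N - n := by
  rw [U_eq r a hr, ← hN, place_unmarked r a N (by omega) q hq]
  have := finrank_map_of_not_mem (T r a) (Es r a univ) (ker_T r a)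
    (degreeLT k (N + 1) ⊓ Fdiv q (n + 1))
    (fun hE => E_not_mem_Fdiv_unmarked r a q hq n hE.2)
  rw [finrank_degreeLT_inf_Fdiv] at this
  omega

end Groth.Agent.Lib.Helper2.WronskP1
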