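import Mathlib
import Groth.Agent.Lib.Helper2.WronskP1.Dims

/-!
# Hyperplanes of `V`
-/

namespace Groth.Agent.Lib.Helper2.WronskP1

open Polynomial Finset Module

variable {k : Type*} [Field k] [CharZero k] {m : ℕ} (r : Fin m → k) (a : Fin m → ℕ)

omit [CharZero k] in
theorem degspan (H : Submodule k k[X]) (n : ℕ) (hH : degreeLT k n ≤ H) (P : k[X]) (hPH : P ∈ H)
    (hP : P ∈ degreeLT k (n + 1)) (hc : P.coeff n ≠ 0) : degreeLT k (n + 1) ≤ H := by
  intro Q hQ
  have h1 : Q - (Q.coeff n / P.coeff n) • P ∈ degreeLT k n := by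
    apply mem_degreeLT_pred (Submodule.sub_mem _ hQ (Submodule.smul_mem _ _ hP))
    rw [coeff_sub, coeff_smul, smul_eq_mul, div_mul_cancel₀ _ hc, sub_self]
  have h2 : Q = (Q - (Q.coeff n / P.coeff n) • P) + (Q.coeff n / P.coeff n) • P := by abel
  rw [h2]
  exact Submodule.add_mem _ (hH h1) (Submodule.smul_mem _ _ hPH)

omit [CharZero k] in
theorem X_sub_C_pow_mem (q : k) (n : ℕ) : (X - C q) ^ n ∈ degreeLT k (n + 1) := by
  apply mem_degreeLT_of_natDegree_le
  rw [(monic_X_sub_C q).natDegree_pow, natDegree_X_sub_C, mul_one]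

omit [CharZero k] in
theorem X_sub_C_pow_coeff (q : k) (n : ℕ) : ((X - C q) ^ n).coeff n = 1 := by
  have h := ((monic_X_sub_C q).pow n).coeff_natDegree
  rwa [(monic_X_sub_C q).natDegree_pow, natDegree_X_sub_C, mul_one] at h

omit [CharZero k] in
theorem X_sub_C_pow_coeff_pred (q : k) (n : ℕ) :
    ((X - C q) ^ (n + 1)).coeff n = -q * ((n + 1 : ℕ) : k) := by
  have : X - C q = X + C (-q) := by rw [C_neg]; ring
  rw [this, coeff_X_add_C_pow, Nat.add_sub_cancel_left, pow_one, Nat.choose_succ_self_right]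

/-- A proper subspace of `V` cannot contain `T(L)`. -/
theorem not_L_le_comap (hr : Function.Injective r) (b N : ℕ) (hN : N = (∑ j, a j) + b)
    (V₁ : Submodule k k[X]) (hV₁ : V₁ ≤ U r a b) (hfin : finrank k V₁ + 1 = N) :
    ¬ degreeLT k (N + 1) ≤ V₁.comap (T r a) := by
  intro h
  have h1 : U r a b ≤ V₁ := by
    rw [U_eq r a hr, ← hN]
    exact Submodule.map_le_iff_le_comap.2 h
  have hfd : FiniteDimensional k (U r a b) := Submodule.finiteDimensional_of_le (U_le r a b)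
  have hfd1 : FiniteDimensional k V₁ := Submodule.finiteDimensional_of_le hV₁
  have h2 := Submodule.finrank_mono h1
  rw [finrank_V r a hr b] at h2
  omega

theorem T_L_le (b' b : ℕ) (hb : b' ≤ b) :
    (degreeLT k ((∑ j, a j) + b' + 1)).map (T r a) ≤ (degreeLT k ((∑ j, a j) + b + 1)).map (T r a) :=
  Submodule.map_mono (degreeLT_mono (by omega))

/-- Elements of `V` vanishing to order `N - 1` at an unmarked point. -/
theorem unmarked_top (hr : Function.Injective r) (b N : ℕ) (hN : N = (∑ j, a j) + b)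
    (q : k) (hq : ∀ j, q ≠ r j) (h : k[X]) (hh : h ∈ U r a b ⊓ Fdiv q N.pred)
    (hN1 : 1 ≤ N) : ∃ c : k, h = c • T r a ((X - C q) ^ N) := by
  rw [U_eq r a hr, ← hN, place_unmarked r a N (by omega) q hq] at hh
  have e : N.pred + 1 = N := by rw [Nat.pred_eq_sub_one]; omega
  rw [e, degreeLT_inf_Fdiv, Nat.add_sub_cancel_left] at hh
  obtain ⟨Q, ⟨H, hH, hHQ⟩, hQh⟩ := hh
  have hH' : H ∈ degreeLT k (0 + 1) := by rw [zero_add]; exact hH
  have hnat : H.natDegree ≤ 0 := natDegree_le_of_mem_degreeLT hH'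
  refine ⟨H.coeff 0, ?_⟩
  rw [← hQh, ← hHQ]
  have hHC : H = C (H.coeff 0) := eq_C_of_natDegree_le_zero hnat
  have : (LinearMap.mulLeft k ((X - C q) ^ N)) H = H.coeff 0 • (X - C q) ^ N := by
    rw [LinearMap.mulLeft_apply, smul_eq_C_mul, mul_comm, ← hHC]
  rw [this, map_smul]

end Groth.Agent.Lib.Helper2.WronskP1
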