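import Mathlib
import Groth.Agent.Lib.Helper2.WronskP1.Hyper

/-!
# Hyperplanes of `V` containing `T(k[X]_{≤ N-2})`: ramification off the marked points
-/

namespace Groth.Agent.Lib.Helper2.WronskP1

open Polynomial Finset Module

variable {k : Type*} [Field k] [CharZero k] {m : ℕ} (r : Fin m → k) (a : Fin m → ℕ)

theorem low_le_comap (hr : Function.Injective r) (b N : ℕ) (hN : N = (∑ j, a j) + b) (hb : 1 ≤ b)
    (V₁ : Submodule k k[X]) (hU : U r a (b - 2) ≤ V₁) :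
    degreeLT k (N - 1) ≤ V₁.comap (T r a) := by
  intro Q hQ
  apply hU
  rw [U_eq r a hr]
  exact ⟨Q, degreeLT_mono (by omega) hQ, rfl⟩

/-- If the preimage `H` of `V₁` contains `k[X]_{<N-1}` and all of `L ⊓ (X-q)^{N-1}` then it contains
`L`. -/
theorem comap_full_of_pencil (N : ℕ) (hN2 : 2 ≤ N) (q : k) (H : Submodule k k[X])
    (hlow : degreeLT k (N - 1) ≤ H)
    (hZ : degreeLT k (N + 1) ⊓ Fdiv q (N - 1) ≤ H) : degreeLT k (N + 1) ≤ H := by
  obtain ⟨n, rfl⟩ : ∃ n, N = n + 2 := ⟨N - 2, by omega⟩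
  have e1 : n + 2 - 1 = n + 1 := by omega
  rw [e1] at hlow hZ
  have h1 : (X - C q) ^ (n + 1) ∈ H :=
    hZ ⟨degreeLT_mono (by omega) (X_sub_C_pow_mem q (n + 1)), mem_Fdiv.2 dvd_rfl⟩
  have h2 : degreeLT k (n + 1 + 1) ≤ H :=
    degspan H (n + 1) hlow _ h1 (X_sub_C_pow_mem q (n + 1)) (by rw [X_sub_C_pow_coeff]; exact one_ne_zero)
  have h3 : (X - C q) ^ (n + 1) * X ∈ degreeLT k (n + 2 + 1) := by
    apply mem_degreeLT_of_natDegree_le
    refine natDegree_mul_le.trans ?_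
    rw [(monic_X_sub_C q).natDegree_pow, natDegree_X_sub_C, natDegree_X]
    omega
  have h4 : (X - C q) ^ (n + 1) * X ∈ H := hZ ⟨h3, mem_Fdiv.2 (dvd_mul_right _ _)⟩
  exact degspan H (n + 2) h2 _ h4 h3 (by rw [coeff_mul_X, X_sub_C_pow_coeff]; exact one_ne_zero)

/-- If `H` contains `k[X]_{<N-1}` and two distinct `N`-th powers then it contains `L`. -/
theorem comap_full_of_two_powers (N : ℕ) (hN1 : 1 ≤ N) (q q' : k) (hqq : q ≠ q')
    (H : Submodule k k[X]) (hlow : degreeLT k (N - 1) ≤ H)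
    (h1 : (X - C q) ^ N ∈ H) (h2 : (X - C q') ^ N ∈ H) : degreeLT k (N + 1) ≤ H := by
  obtain ⟨n, rfl⟩ : ∃ n, N = n + 1 := ⟨N - 1, by omega⟩
  rw [Nat.add_sub_cancel] at hlow
  have hP : (X - C q) ^ (n + 1) - (X - C q') ^ (n + 1) ∈ degreeLT k (n + 1) := by
    apply mem_degreeLT_pred
    · exact Submodule.sub_mem _ (X_sub_C_pow_mem q (n + 1)) (X_sub_C_pow_mem q' (n + 1))
    · rw [coeff_sub, X_sub_C_pow_coeff, X_sub_C_pow_coeff, sub_self]
  have hc : ((X - C q) ^ (n + 1) - (X - C q') ^ (n + 1)).coeff n ≠ 0 := by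
    rw [coeff_sub, X_sub_C_pow_coeff_pred, X_sub_C_pow_coeff_pred]
    have hn : ((n + 1 : ℕ) : k) ≠ 0 := Nat.cast_ne_zero.2 (Nat.succ_ne_zero n)
    intro h0
    have : (q' - q) * ((n + 1 : ℕ) : k) = 0 := by linear_combination h0
    rcases mul_eq_zero.1 this with h | h
    · exact hqq (sub_eq_zero.1 h).symm
    · exact hn h
  have h3 := degspan H n hlow _ (H.sub_mem h1 h2) hP hc
  exact degspan H (n + 1) h3 _ h1 (X_sub_C_pow_mem q (n + 1))
    (by rw [X_sub_C_pow_coeff]; exact one_ne_zero)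

/-- A nonzero member of `V₁ ≤ V` vanishing to order `N - 1` at `q` forces `(X - q)^N ∈ T⁻¹ V₁`. -/
theorem pow_mem_comap_of_ne_bot (hr : Function.Injective r) (b N : ℕ) (hN : N = (∑ j, a j) + b)
    (hN1 : 1 ≤ N) (q : k) (hq : ∀ j, q ≠ r j) (V₁ : Submodule k k[X]) (hV₁ : V₁ ≤ U r a b)
    (hne : V₁ ⊓ Fdiv q (N - 1) ≠ ⊥) : (X - C q) ^ N ∈ V₁.comap (T r a) := by
  obtain ⟨h, ⟨hh1, hh2⟩, hh0⟩ := (Submodule.ne_bot_iff _).1 hne
  obtain ⟨c, hc⟩ := unmarked_top r a hr b N hN q hq h ⟨hV₁ hh1, by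
    rw [Nat.pred_eq_sub_one]; exact hh2⟩ hN1
  have hc0 : c ≠ 0 := by
    intro h0; rw [h0, zero_smul] at hc; exact hh0 hc
  show T r a ((X - C q) ^ N) ∈ V₁
  have : T r a ((X - C q) ^ N) = c⁻¹ • h := by
    rw [hc, smul_smul, inv_mul_cancel₀ hc0, one_smul]
  rw [this]
  exact V₁.smul_mem _ hh1

theorem hyper_unmarked (hr : Function.Injective r) (b N : ℕ) (hN : N = (∑ j, a j) + b)
    (V₁ : Submodule k k[X]) (hV₁ : V₁ ≤ U r a b) (hfin : finrank k V₁ + 1 = N)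
    (q : k) (hq : ∀ j, q ≠ r j)
    (hZ : 2 ≤ N → ¬ degreeLT k (N + 1) ⊓ Fdiv q (N - 1) ≤ V₁.comap (T r a)) :
    V₁ ⊓ Fdiv q N = ⊥ ∧ finrank k ↥(V₁ ⊓ Fdiv q (N - 2)) ≤ 1 := by
  have hfd : FiniteDimensional k (U r a b) := Submodule.finiteDimensional_of_le (U_le r a b)
  have hfd1 : FiniteDimensional k V₁ := Submodule.finiteDimensional_of_le hV₁
  constructor
  · have h := finrank_V_inf_unmarked r a hr b N hN q hq N
    rw [Nat.sub_self] at h
    have h2 : U r a b ⊓ Fdiv q N = ⊥ := Submodule.finrank_eq_zero.1 h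
    exact le_bot_iff.1 (h2 ▸ inf_le_inf_right _ hV₁)
  · rcases Nat.lt_or_ge N 3 with hlt | hge
    · have : N - 2 = 0 := by omega
      rw [this, Fdiv_zero, inf_top_eq]
      omega
    · have hZf := finrank_V_inf_unmarked r a hr b N hN q hq (N - 2)
      have e2 : N - (N - 2) = 2 := by omega
      rw [e2] at hZf
      have hinf : V₁ ⊓ Fdiv q (N - 2) = V₁ ⊓ (U r a b ⊓ Fdiv q (N - 2)) := by
        rw [← inf_assoc, inf_eq_left.2 hV₁]
      rw [hinf]
      have hnot : ¬ (U r a b ⊓ Fdiv q (N - 2)) ≤ V₁ := by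
        intro hle
        apply hZ (by omega)
        intro Q hQ
        apply hle
        rw [U_eq r a hr, ← hN, place_unmarked r a N (by omega) q hq]
        have e3 : N - 2 + 1 = N - 1 := by omega
        rw [e3]
        exact ⟨Q, hQ, rfl⟩
      have := finrank_hyperplane_inf (U r a b) V₁ (U r a b ⊓ Fdiv q (N - 2)) hV₁ inf_le_left
        (by rw [finrank_V r a hr b, ← hN]; exact hfin) hnot
      omega

end Groth.Agent.Lib.Helper2.WronskP1
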