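import Mathlib
import Groth.Agent.Lib.Helper2.WronskP1.Hyper2

/-!
# The subsystem `V(-p)` at an unmarked point `p`
-/

namespace Groth.Agent.Lib.Helper2.WronskP1

open Polynomial Finset Module

variable {k : Type*} [Field k] [CharZero k] {m : ℕ} (r : Fin m → k) (a : Fin m → ℕ)

omit [CharZero k] in
theorem Fdiv_one (p : k) : Fdiv p 1 = (Ideal.span {X - C p}).restrictScalars k := by
  rw [Fdiv, pow_one]

omit [CharZero k] in
theorem eval_of_mem_Fdiv_one {p : k} {h : k[X]} (hh : h ∈ Fdiv p 1) : h.eval p = 0 := by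
  rw [mem_Fdiv, pow_one, dvd_iff_isRoot] at hh
  exact hh

omit [CharZero k] in
theorem eval_T_lin (p : k) (H : k[X]) :
    (T r a ((X - C p) * H)).eval p = (Rs r univ).eval p * H.eval p := by
  have := T_pow_mul r a p 0 H
  rw [zero_add, pow_one, pow_zero, one_mul] at this
  rw [this]
  simp

omit [CharZero k] in
theorem eval_T_pow (p q : k) (N : ℕ) (hN : 1 ≤ N) :
    (T r a ((X - C q) ^ N)).eval p =
      (p - q) ^ (N - 1) * ((N : k) * (Rs r univ).eval p - (Ss r a univ).eval p * (p - q)) := by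
  obtain ⟨n, rfl⟩ : ∃ n, N = n + 1 := ⟨N - 1, by omega⟩
  rw [T_apply, derivative_X_sub_C_pow, Nat.add_sub_cancel]
  simp only [eval_sub, eval_mul, eval_pow, eval_X, eval_C, map_natCast, eval_natCast]
  ring

theorem V1_finrank (hr : Function.Injective r) (b N : ℕ) (hN : N = (∑ j, a j) + b) (hb : 1 ≤ b)
    (p : k) (hp : ∀ j, p ≠ r j) : finrank k ↥(U r a b ⊓ Fdiv p 1) + 1 = N := by
  rw [finrank_V_inf_unmarked r a hr b N hN p hp 1]; omega

theorem V1_not_pencil (hr : Function.Injective r) (b N : ℕ) (hN2 : 2 ≤ N)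
    (p : k) (hp : ∀ j, p ≠ r j) (q : k) (hqp : q ≠ p) :
    ¬ degreeLT k (N + 1) ⊓ Fdiv q (N - 1) ≤ (U r a b ⊓ Fdiv p 1).comap (T r a) := by
  intro hle
  have hQ : (X - C p) * (X - C q) ^ (N - 1) ∈ degreeLT k (N + 1) ⊓ Fdiv q (N - 1) := by
    refine ⟨?_, mem_Fdiv.2 (dvd_mul_left _ _)⟩
    apply mem_degreeLT_of_natDegree_le
    refine natDegree_mul_le.trans ?_
    rw [(monic_X_sub_C q).natDegree_pow, natDegree_X_sub_C, natDegree_X_sub_C]
    omega
  have h1 := hle hQ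
  have h2 := eval_of_mem_Fdiv_one h1.2
  rw [eval_T_lin] at h2
  have hR : (Rs r univ).eval p ≠ 0 := Rs_eval_ne_zero r _ _ fun j _ => hp j
  rcases mul_eq_zero.1 h2 with h3 | h3
  · exact hR h3
  · simp only [eval_pow, eval_sub, eval_X, eval_C] at h3
    exact hqp (sub_eq_zero.1 (pow_eq_zero_iff (by omega) |>.1 h3)).symm

theorem V1_unique (hr : Function.Injective r) (b N : ℕ) (hN1 : 1 ≤ N)
    (p : k) (hp : ∀ j, p ≠ r j) (q q' : k) (hqp : q ≠ p) (hqp' : q' ≠ p)
    (h1 : (X - C q) ^ N ∈ (U r a b ⊓ Fdiv p 1).comap (T r a))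
    (h2 : (X - C q') ^ N ∈ (U r a b ⊓ Fdiv p 1).comap (T r a)) : q = q' := by
  have e1 := eval_of_mem_Fdiv_one h1.2
  have e2 := eval_of_mem_Fdiv_one h2.2
  rw [eval_T_pow r a p q N hN1] at e1
  rw [eval_T_pow r a p q' N hN1] at e2
  have hR : (Rs r univ).eval p ≠ 0 := Rs_eval_ne_zero r _ _ fun j _ => hp j
  have hNk : (N : k) ≠ 0 := Nat.cast_ne_zero.2 (by omega)
  have f1 : (N : k) * (Rs r univ).eval p - (Ss r a univ).eval p * (p - q) = 0 :=
    (mul_eq_zero.1 e1).resolve_left (pow_ne_zero _ (sub_ne_zero.2 hqp.symm))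
  have f2 : (N : k) * (Rs r univ).eval p - (Ss r a univ).eval p * (p - q') = 0 :=
    (mul_eq_zero.1 e2).resolve_left (pow_ne_zero _ (sub_ne_zero.2 hqp'.symm))
  have hS : (Ss r a univ).eval p ≠ 0 := by
    intro h0
    rw [h0, zero_mul, sub_zero] at f1
    exact (mul_ne_zero hNk hR) f1
  have : (Ss r a univ).eval p * (q - q') = 0 := by linear_combination f1 - f2
  exact sub_eq_zero.1 ((mul_eq_zero.1 this).resolve_left hS)

end Groth.Agent.Lib.Helper2.WronskP1
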