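import Mathlib

/-!
# Arithmetic of weights
-/

namespace Groth.Agent.Lib.Helper2.WronskP1

open Finset

theorem sum_reflect_choose (M : ℕ) : ∑ n ∈ range M, (M - 1 - n) = M.choose 2 := by
  induction M with
  | zero => simp
  | succ M ih =>
    rw [Finset.sum_range_succ, Nat.add_sub_cancel, Nat.sub_self, add_zero]
    have : ∑ n ∈ range M, (M - n) = ∑ n ∈ range M, ((M - 1 - n) + 1) := by
      refine Finset.sum_congr rfl fun n hn => ?_
      have := Finset.mem_range.1 hn
      omega
    rw [this, Finset.sum_add_distrib, ih]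
    simp only [sum_const, card_range, smul_eq_mul, mul_one]
    rw [Nat.choose_two_right, Nat.choose_two_right]
    have h2 : (M + 1) * (M + 1 - 1) = M * (M - 1) + 2 * M := by
      rcases M with _ | M
      · simp
      · simp only [Nat.add_sub_cancel]; ring
    rw [h2, Nat.add_mul_div_left _ _ (by norm_num : 0 < 2)]

theorem sum_indicator (M e : ℕ) (he : e ≤ M) :
    ∑ n ∈ range M, (if e ≤ n then 1 else 0) = M - e := by
  induction M with
  | zero => simp
  | succ M ih =>
    rw [Finset.sum_range_succ]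
    rcases Nat.eq_or_lt_of_le he with h | h
    · have : ∑ n ∈ range M, (if e ≤ n then 1 else 0) = 0 := by
        refine Finset.sum_eq_zero fun n hn => ?_
        have := Finset.mem_range.1 hn
        rw [if_neg (by omega)]
      rw [this, if_neg (by omega)]; omega
    · rw [ih (by omega), if_pos (by omega)]; omega

/-- The weight computation. -/
theorem weight_sum (N e d ε : ℕ) (g : ℕ → ℕ) (he : e < N) (hd : N ≤ d)
    (h1 : ∀ n, 1 ≤ n → n ≤ N - 1 → g n + 1 = if n ≤ e then N - n else N + 1 - n)
    (h2 : g N = ε) (h3 : ∀ n, N < n → g n = 0) :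
    (∑ n ∈ range d, g (n + 1)) + 1 = (N - 1).choose 2 + (N - e) + ε := by
  have hsplit : ∑ n ∈ range d, g (n + 1) =
      ∑ n ∈ range (N - 1), g (n + 1) + g N + ∑ n ∈ Finset.Ico N d, g (n + 1) := by
    rw [Finset.range_eq_Ico, ← Finset.sum_Ico_consecutive _ (Nat.zero_le (N - 1)) (by omega : N - 1 ≤ d),
      ← Finset.sum_Ico_consecutive _ (by omega : N - 1 ≤ N) hd]
    have : Finset.Ico (N - 1) N = {N - 1} := by
      ext x; simp only [Finset.mem_Ico, Finset.mem_singleton]; omega
    rw [this, Finset.sum_singleton]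
    have e1 : N - 1 + 1 = N := by omega
    rw [e1, Finset.range_eq_Ico, add_assoc]
  have hz : ∑ n ∈ Finset.Ico N d, g (n + 1) = 0 :=
    Finset.sum_eq_zero fun n hn => h3 _ (by have := (Finset.mem_Ico.1 hn).1; omega)
  have hmain : ∑ n ∈ range (N - 1), g (n + 1) =
      ∑ n ∈ range (N - 1), ((N - 1 - 1 - n) + (if e ≤ n then 1 else 0)) := by
    refine Finset.sum_congr rfl fun n hn => ?_
    have hn' := Finset.mem_range.1 hn
    have := h1 (n + 1) (by omega) (by omega)
    by_cases hc : e ≤ n
    · rw [if_neg (by omega)] at this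
      rw [if_pos hc]; omega
    · rw [if_pos (by omega)] at this
      rw [if_neg hc]; omega
  rw [hsplit, hz, hmain, Finset.sum_add_distrib, sum_reflect_choose, sum_indicator _ _ (by omega), h2]
  omega

/-- Total of the dimension function `f j = if j ≤ e then N - j else N + 1 - j`. -/
theorem total_sum (N e d : ℕ) (he : e ≤ N) (hd : N - 1 ≤ d) (hd' : d < N → e = N) :
    ∑ n ∈ range d, (if n + 1 ≤ e then N - (n + 1) else N + 1 - (n + 1)) = N.choose 2 + (N - e) := by
  rcases Nat.eq_zero_or_pos N with hN0 | hNpos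
  · subst hN0
    have he0 : e = 0 := by omega
    subst he0
    simp
  have hsplit : ∑ n ∈ range d, (if n + 1 ≤ e then N - (n + 1) else N + 1 - (n + 1)) =
      ∑ n ∈ range (N - 1), (if n + 1 ≤ e then N - (n + 1) else N + 1 - (n + 1)) +
        ∑ n ∈ Finset.Ico (N - 1) d, (if n + 1 ≤ e then N - (n + 1) else N + 1 - (n + 1)) := by
    rw [Finset.range_eq_Ico, Finset.range_eq_Ico]
    exact (Finset.sum_Ico_consecutive _ (Nat.zero_le _) hd).symm
  have h1 : ∑ n ∈ range (N - 1), (if n + 1 ≤ e then N - (n + 1) else N + 1 - (n + 1)) =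
      ∑ n ∈ range (N - 1), ((N - 1 - 1 - n) + 1 + (if e ≤ n then 1 else 0)) := by
    refine Finset.sum_congr rfl fun n hn => ?_
    have hn' := Finset.mem_range.1 hn
    by_cases hc : e ≤ n
    · rw [if_neg (by omega), if_pos hc]; omega
    · rw [if_pos (by omega), if_neg hc]; omega
  have hchoose : N.choose 2 = (N - 1).choose 2 + (N - 1) := by
    obtain ⟨M, rfl⟩ : ∃ M, N = M + 1 := ⟨N - 1, by omega⟩
    rw [Nat.add_sub_cancel, Nat.choose_succ_succ' M 1, Nat.choose_one_right]; ring
  rcases Nat.lt_or_ge d N with hlt | hge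
  · have heN := hd' hlt
    have hdN : d = N - 1 := by omega
    have h2 : ∑ n ∈ Finset.Ico (N - 1) d,
        (if n + 1 ≤ e then N - (n + 1) else N + 1 - (n + 1)) = 0 := by
      rw [hdN, Finset.Ico_self, Finset.sum_empty]
    have h3 : ∑ n ∈ range (N - 1), (if e ≤ n then 1 else 0) = 0 := by
      refine Finset.sum_eq_zero fun n hn => ?_
      have := Finset.mem_range.1 hn
      rw [if_neg (by omega)]
    rw [hsplit, h1, h2, Finset.sum_add_distrib, Finset.sum_add_distrib, sum_reflect_choose, h3,
      hchoose]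
    simp only [sum_const, card_range, smul_eq_mul, mul_one]
    omega
  · have h2 : ∑ n ∈ Finset.Ico (N - 1) d,
        (if n + 1 ≤ e then N - (n + 1) else N + 1 - (n + 1)) = if N ≤ e then 0 else 1 := by
      rw [Finset.sum_eq_sum_Ico_succ_bot (by omega : N - 1 < d)]
      have hz : ∑ n ∈ Finset.Ico (N - 1 + 1) d,
          (if n + 1 ≤ e then N - (n + 1) else N + 1 - (n + 1)) = 0 := by
        refine Finset.sum_eq_zero fun n hn => ?_
        have := (Finset.mem_Ico.1 hn).1
        split_ifs <;> omega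
      rw [hz, add_zero]
      have e1 : N - 1 + 1 = N := by omega
      rw [e1]
      split_ifs <;> omega
    rcases Nat.eq_or_lt_of_le he with heN | heN
    · have h3 : ∑ n ∈ range (N - 1), (if e ≤ n then 1 else 0) = 0 := by
        refine Finset.sum_eq_zero fun n hn => ?_
        have := Finset.mem_range.1 hn
        rw [if_neg (by omega)]
      rw [hsplit, h1, h2, Finset.sum_add_distrib, Finset.sum_add_distrib, sum_reflect_choose, h3,
        hchoose, if_pos (by omega)]
      simp only [sum_const, card_range, smul_eq_mul, mul_one]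
      omega
    · rw [hsplit, h1, h2, Finset.sum_add_distrib, Finset.sum_add_distrib, sum_reflect_choose,
        sum_indicator _ _ (by omega), hchoose, if_neg (by omega)]
      simp only [sum_const, card_range, smul_eq_mul, mul_one]
      omega

/-- The weight at infinity of a hyperplane containing all members of order at least two. -/
theorem weight_sum_top (N b d ε : ℕ) (g : ℕ → ℕ) (hbN : b ≤ N) (hb1 : 1 ≤ b) (hN2 : 2 ≤ N)
    (hd : N - 1 ≤ d) (hd' : d < N → b = N) (h1 : g 1 = N - 2 + ε)
    (h2 : ∀ n, 2 ≤ n → g n = if n ≤ b then N - n else N + 1 - n) :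
    ∑ n ∈ range d, g (n + 1) = (N - 1).choose 2 + (N - b) + (N - 2) + ε := by
  have htot := total_sum N b d hbN hd hd'
  have hd1 : 0 < d := by omega
  rw [Finset.range_eq_Ico, Finset.sum_eq_sum_Ico_succ_bot hd1] at htot ⊢
  have hcongr : ∑ n ∈ Finset.Ico (0 + 1) d, g (n + 1) =
      ∑ n ∈ Finset.Ico (0 + 1) d, (if n + 1 ≤ b then N - (n + 1) else N + 1 - (n + 1)) := by
    refine Finset.sum_congr rfl fun n hn => ?_
    have := (Finset.mem_Ico.1 hn).1
    exact h2 (n + 1) (by omega)
  rw [hcongr, zero_add, h1]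
  rw [zero_add, if_pos hb1] at htot
  have hchoose : N.choose 2 = (N - 1).choose 2 + (N - 1) := by
    obtain ⟨M, rfl⟩ : ∃ M, N = M + 1 := ⟨N - 1, by omega⟩
    rw [Nat.add_sub_cancel, Nat.choose_succ_succ' M 1, Nat.choose_one_right]; ring
  omega

/-- The degenerate case `d = N - 1`. -/
theorem weight_sum_degenerate (N d : ℕ) (g : ℕ → ℕ) (hd : d = N - 1)
    (h1 : ∀ n, 1 ≤ n → n ≤ N - 1 → g n + 1 = N - n) :
    (∑ n ∈ range d, g (n + 1)) + 1 = (N - 1).choose 2 + 1 := by
  have : ∑ n ∈ range d, g (n + 1) = ∑ n ∈ range (N - 1), (N - 1 - 1 - n) := by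
    rw [hd]
    refine Finset.sum_congr rfl fun n hn => ?_
    have hn' := Finset.mem_range.1 hn
    have := h1 (n + 1) (by omega) (by omega)
    omega
  rw [this, sum_reflect_choose]

end Groth.Agent.Lib.Helper2.WronskP1
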