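import Mathlib
import Groth.Agent.Lib.Helper2.WronskP1.Hyper3
import Groth.Agent.Lib.Helper2.WronskP1.Weight

/-!
# Weights of hyperplane subsystems at the marked points
-/

namespace Groth.Agent.Lib.Helper2.WronskP1

open Polynomial Finset Module

variable {k : Type*} [Field k] [CharZero k] {m : ℕ} (r : Fin m → k) (a : Fin m → ℕ)

omit [CharZero k] in
theorem inf_inf_of_le (V V₁ Z : Submodule k k[X]) (h : V₁ ≤ V) : V₁ ⊓ Z = V₁ ⊓ (V ⊓ Z) := by
  rw [← inf_assoc, inf_eq_left.2 h]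

theorem sum_a_pos (ha : ∀ j, 1 ≤ a j) (hm : 1 ≤ m) : 1 ≤ ∑ j, a j :=
  (ha ⟨0, hm⟩).trans (Finset.single_le_sum (fun _ _ => Nat.zero_le _) (mem_univ _))

theorem weight_marked (hr : Function.Injective r) (b N d : ℕ) (hN : N = (∑ j, a j) + b)
    (hb : 1 ≤ b) (hd : d + 1 = N + m) (V₁ : Submodule k k[X]) (hV₁ : V₁ ≤ U r a b)
    (hfin : finrank k V₁ + 1 = N) (i : Fin m)
    (hnot : ∀ n, 1 ≤ n → n ≤ N - 1 → ¬ (U r a b ⊓ Fdiv (r i) n ≤ V₁)) :
    ∃ ε : ℕ, ε ≤ 1 ∧ (∑ n ∈ range d, finrank k ↥(V₁ ⊓ Fdiv (r i) (n + 1))) + 1 =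
      (N - 1).choose 2 + (N - a i) + ε := by
  have hfd : FiniteDimensional k (U r a b) := Submodule.finiteDimensional_of_le (U_le r a b)
  have hai : a i ≤ ∑ j, a j := Finset.single_le_sum (fun _ _ => Nat.zero_le _) (mem_univ i)
  have hm : 1 ≤ m := Fin.pos i
  have hle : ∀ n, finrank k ↥(V₁ ⊓ Fdiv (r i) n) ≤ finrank k ↥(U r a b ⊓ Fdiv (r i) n) := by
    intro n
    rw [inf_inf_of_le (U r a b) V₁ _ hV₁]
    exact Submodule.finrank_mono inf_le_right
  refine ⟨finrank k ↥(V₁ ⊓ Fdiv (r i) N), ?_, ?_⟩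
  · refine (hle N).trans ?_
    rw [finrank_V_inf_marked r a hr b N hN i N, if_neg (by omega)]
    omega
  · refine weight_sum N (a i) d _ (fun n => finrank k ↥(V₁ ⊓ Fdiv (r i) n)) (by omega) (by omega)
      ?_ rfl ?_
    · intro n hn1 hn2
      have := finrank_hyperplane_inf (U r a b) V₁ (U r a b ⊓ Fdiv (r i) n) hV₁ inf_le_left
        (by rw [finrank_V r a hr b, ← hN]; exact hfin) (hnot n hn1 hn2)
      rw [finrank_V_inf_marked r a hr b N hN i n, ← inf_inf_of_le (U r a b) V₁ _ hV₁] at this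
      exact this
    · intro n hn
      have := hle n
      rw [finrank_V_inf_marked r a hr b N hN i n, if_neg (by omega)] at this
      show finrank k ↥(V₁ ⊓ Fdiv (r i) n) = 0
      omega

theorem weight_top (hr : Function.Injective r) (ha : ∀ j, 1 ≤ a j) (b N d : ℕ)
    (hN : N = (∑ j, a j) + b) (hb : 1 ≤ b) (hd : d + 1 = N + m) (V₁ : Submodule k k[X])
    (hV₁ : V₁ ≤ U r a b) (hfin : finrank k V₁ + 1 = N)
    (hnot : ∀ n, 1 ≤ n → n ≤ N - 1 → ¬ (U r a b ⊓ degreeLT k (d + 1 - n) ≤ V₁)) :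
    ∃ ε : ℕ, ε ≤ 1 ∧ (∑ n ∈ range d, finrank k ↥(V₁ ⊓ degreeLT k (d - n))) + 1 =
      (N - 1).choose 2 + (N - b) + ε := by
  have hfd : FiniteDimensional k (U r a b) := Submodule.finiteDimensional_of_le (U_le r a b)
  have hle : ∀ n, finrank k ↥(V₁ ⊓ degreeLT k (d + 1 - n)) ≤
      finrank k ↥(U r a b ⊓ degreeLT k (d + 1 - n)) := by
    intro n
    rw [inf_inf_of_le (U r a b) V₁ _ hV₁]
    exact Submodule.finrank_mono inf_le_right
  have hsum : ∑ n ∈ range d, finrank k ↥(V₁ ⊓ degreeLT k (d - n)) =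
      ∑ n ∈ range d, (fun n => finrank k ↥(V₁ ⊓ degreeLT k (d + 1 - n))) (n + 1) := by
    refine Finset.sum_congr rfl fun n _ => ?_
    show _ = finrank k ↥(V₁ ⊓ degreeLT k (d + 1 - (n + 1)))
    rw [Nat.add_sub_add_right]
  have hstep : ∀ n, 1 ≤ n → n ≤ N - 1 → finrank k ↥(V₁ ⊓ degreeLT k (d + 1 - n)) + 1 =
      if n ≤ b then N - n else N + 1 - n := by
    intro n hn1 hn2
    have := finrank_hyperplane_inf (U r a b) V₁ (U r a b ⊓ degreeLT k (d + 1 - n)) hV₁ inf_le_left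
      (by rw [finrank_V r a hr b, ← hN]; exact hfin) (hnot n hn1 hn2)
    rw [finrank_V_inf_top r a hr b N d hN hd n, ← inf_inf_of_le (U r a b) V₁ _ hV₁] at this
    exact this
  rw [hsum]
  rcases Nat.eq_zero_or_pos m with hm0 | hmpos
  · subst hm0
    have hs0 : (∑ j : Fin 0, a j) = 0 := by simp
    refine ⟨1, le_rfl, ?_⟩
    have := weight_sum_degenerate N d (fun n => finrank k ↥(V₁ ⊓ degreeLT k (d + 1 - n)))
      (by omega) (fun n hn1 hn2 => by
        have := hstep n hn1 hn2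
        rw [if_pos (by omega)] at this
        exact this)
    rw [this]; omega
  · have hs := sum_a_pos a ha hmpos
    refine ⟨finrank k ↥(V₁ ⊓ degreeLT k (d + 1 - N)), ?_, ?_⟩
    · refine (hle N).trans ?_
      rw [finrank_V_inf_top r a hr b N d hN hd N, if_neg (by omega)]
      omega
    · refine weight_sum N b d _ (fun n => finrank k ↥(V₁ ⊓ degreeLT k (d + 1 - n))) (by omega)
        (by omega) hstep rfl ?_
      intro n hn
      have := hle n
      rw [finrank_V_inf_top r a hr b N d hN hd n, if_neg (by omega)] at this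
      show finrank k ↥(V₁ ⊓ degreeLT k (d + 1 - n)) = 0
      omega

theorem weight_top_contained (hr : Function.Injective r) (ha : ∀ j, 1 ≤ a j) (b N d : ℕ)
    (hN : N = (∑ j, a j) + b) (hb : 1 ≤ b) (hd : d + 1 = N + m) (V₁ : Submodule k k[X])
    (hV₁ : V₁ ≤ U r a b) (hfin : finrank k V₁ + 1 = N)
    (hcont : ∀ n, 2 ≤ n → U r a b ⊓ degreeLT k (d + 1 - n) ≤ V₁) :
    ∃ ε : ℕ, ε ≤ 1 ∧ (∑ n ∈ range d, finrank k ↥(V₁ ⊓ degreeLT k (d - n))) =
      (N - 1).choose 2 + (N - b) + (N - 2) + ε := by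
  classical
  have hfd : FiniteDimensional k (U r a b) := Submodule.finiteDimensional_of_le (U_le r a b)
  have hsum : ∑ n ∈ range d, finrank k ↥(V₁ ⊓ degreeLT k (d - n)) =
      ∑ n ∈ range d, (fun n => finrank k ↥(V₁ ⊓ degreeLT k (d + 1 - n))) (n + 1) := by
    refine Finset.sum_congr rfl fun n _ => ?_
    show _ = finrank k ↥(V₁ ⊓ degreeLT k (d + 1 - (n + 1)))
    rw [Nat.add_sub_add_right]
  have hm_of : d < N → m = 0 := fun h => by omega
  have hs0_of : m = 0 → (∑ j, a j) = 0 := by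
    intro h; subst h; simp
  rcases Nat.lt_or_ge N 2 with hN1 | hN2
  · -- N = 1
    have hm0 : m = 0 := by
      by_contra hm
      have := sum_a_pos a ha (Nat.one_le_iff_ne_zero.2 hm)
      omega
    have hd0 : d = 0 := by omega
    refine ⟨0, Nat.zero_le _, ?_⟩
    rw [hd0, Finset.range_zero, Finset.sum_empty]
    have : N - 1 = 0 := by omega
    rw [this]
    simp
    omega
  · rw [hsum]
    have h2 : ∀ n, 2 ≤ n → finrank k ↥(V₁ ⊓ degreeLT k (d + 1 - n)) =
        if n ≤ b then N - n else N + 1 - n := by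
      intro n hn
      rw [inf_inf_of_le (U r a b) V₁ _ hV₁, inf_eq_right.2 (hcont n hn),
        finrank_V_inf_top r a hr b N d hN hd n]
    have hf1 := finrank_V_inf_top r a hr b N d hN hd 1
    rw [if_pos hb] at hf1
    by_cases hc : U r a b ⊓ degreeLT k (d + 1 - 1) ≤ V₁
    · refine ⟨1, le_rfl, ?_⟩
      refine weight_sum_top N b d 1 (fun n => finrank k ↥(V₁ ⊓ degreeLT k (d + 1 - n))) (by omega)
        hb hN2 (by omega) (fun h => by have := hs0_of (hm_of h); omega) ?_ h2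
      show finrank k ↥(V₁ ⊓ degreeLT k (d + 1 - 1)) = N - 2 + 1
      rw [inf_inf_of_le (U r a b) V₁ _ hV₁, inf_eq_right.2 hc, hf1]
      omega
    · refine ⟨0, Nat.zero_le _, ?_⟩
      refine weight_sum_top N b d 0 (fun n => finrank k ↥(V₁ ⊓ degreeLT k (d + 1 - n))) (by omega)
        hb hN2 (by omega) (fun h => by have := hs0_of (hm_of h); omega) ?_ h2
      show finrank k ↥(V₁ ⊓ degreeLT k (d + 1 - 1)) = N - 2 + 0
      have := finrank_hyperplane_inf (U r a b) V₁ (U r a b ⊓ degreeLT k (d + 1 - 1)) hV₁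
        inf_le_left (by rw [finrank_V r a hr b, ← hN]; exact hfin) hc
      rw [hf1, ← inf_inf_of_le (U r a b) V₁ _ hV₁] at this
      omega

end Groth.Agent.Lib.Helper2.WronskP1
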