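import Mathlib
import Groth.Agent.Lib.Helper2.WronskP1.Weights2

/-!
# Containment facts for the two kinds of hyperplane subsystems
-/

namespace Groth.Agent.Lib.Helper2.WronskP1

open Polynomial Finset Module

variable {k : Type*} [Field k] [CharZero k] {m : ℕ} (r : Fin m → k) (a : Fin m → ℕ)

omit [CharZero k] in
theorem comap_full_of_marked (N n : ℕ) (hn : n + 1 ≤ N) (c : k) (H : Submodule k k[X])
    (hlow : degreeLT k (N - 1) ≤ H) (hZ : degreeLT k (N + 1) ⊓ Fdiv c n ≤ H) :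
    degreeLT k (N + 1) ≤ H := by
  obtain ⟨j, rfl⟩ : ∃ j, N = n + 1 + j := ⟨N - (n + 1), by omega⟩
  have e1 : n + 1 + j - 1 = n + j := by omega
  rw [e1] at hlow
  have hm1 : ((X - C c) ^ n * X ^ j).Monic := ((monic_X_sub_C c).pow n).mul (monic_X_pow j)
  have hm2 : ((X - C c) ^ n * X ^ (j + 1)).Monic :=
    ((monic_X_sub_C c).pow n).mul (monic_X_pow (j + 1))
  have hd1 : ((X - C c) ^ n * X ^ j).natDegree = n + j := by
    rw [((monic_X_sub_C c).pow n).natDegree_mul (monic_X_pow j),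
      (monic_X_sub_C c).natDegree_pow, natDegree_X_sub_C, natDegree_X_pow, mul_one]
  have hd2 : ((X - C c) ^ n * X ^ (j + 1)).natDegree = n + (j + 1) := by
    rw [((monic_X_sub_C c).pow n).natDegree_mul (monic_X_pow (j + 1)),
      (monic_X_sub_C c).natDegree_pow, natDegree_X_sub_C, natDegree_X_pow, mul_one]
  have hP1 : (X - C c) ^ n * X ^ j ∈ degreeLT k (n + j + 1) :=
    mem_degreeLT_of_natDegree_le hd1.le
  have hP2 : (X - C c) ^ n * X ^ (j + 1) ∈ degreeLT k (n + 1 + j + 1) :=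
    mem_degreeLT_of_natDegree_le (by rw [hd2]; omega)
  have h1 : (X - C c) ^ n * X ^ j ∈ H :=
    hZ ⟨degreeLT_mono (by omega) hP1, mem_Fdiv.2 (dvd_mul_right _ _)⟩
  have h2 : (X - C c) ^ n * X ^ (j + 1) ∈ H := hZ ⟨hP2, mem_Fdiv.2 (dvd_mul_right _ _)⟩
  have c1 : ((X - C c) ^ n * X ^ j).coeff (n + j) = 1 := by
    have := hm1.coeff_natDegree; rwa [hd1] at this
  have c2 : ((X - C c) ^ n * X ^ (j + 1)).coeff (n + 1 + j) = 1 := by
    have := hm2.coeff_natDegree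
    rw [hd2] at this
    have e : n + 1 + j = n + (j + 1) := by omega
    rw [e]; exact this
  have h3 : degreeLT k (n + j + 1) ≤ H :=
    degspan H (n + j) hlow _ h1 hP1 (by rw [c1]; exact one_ne_zero)
  have e2 : n + j + 1 = n + 1 + j := by omega
  rw [e2] at h3
  exact degspan H (n + 1 + j) h3 _ h2 hP2 (by rw [c2]; exact one_ne_zero)

theorem hyper_not_marked (hr : Function.Injective r) (b N : ℕ) (hN : N = (∑ j, a j) + b)
    (hb : 1 ≤ b) (V₁ : Submodule k k[X]) (hV₁ : V₁ ≤ U r a b) (hfin : finrank k V₁ + 1 = N)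
    (hU : U r a (b - 2) ≤ V₁) (i : Fin m) (n : ℕ) (_hn1 : 1 ≤ n) (hn2 : n ≤ N - 1) :
    ¬ (U r a b ⊓ Fdiv (r i) n ≤ V₁) := by
  intro hle
  have hlow := low_le_comap r a hr b N hN hb V₁ hU
  apply not_L_le_comap r a hr b N hN V₁ hV₁ hfin
  apply comap_full_of_marked N n (by omega) (r i) _ hlow
  intro Q hQ
  apply hle
  rw [U_eq r a hr, ← hN, place_marked r a hr N (by omega)]
  exact ⟨Q, hQ, rfl⟩

theorem hyper_contained_top (hr : Function.Injective r) (b N d : ℕ) (hN : N = (∑ j, a j) + b)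
    (hb : 1 ≤ b) (hd : d + 1 = N + m) (V₁ : Submodule k k[X])
    (hU : U r a (b - 2) ≤ V₁) (n : ℕ) (hn : 2 ≤ n) :
    U r a b ⊓ degreeLT k (d + 1 - n) ≤ V₁ := by
  have hlow := low_le_comap r a hr b N hN hb V₁ hU
  rw [U_eq r a hr, ← hN, place_top r a b N d hN hd]
  rw [Submodule.map_le_iff_le_comap]
  exact (degreeLT_mono (by omega)).trans hlow

theorem V1_not_marked (hr : Function.Injective r) (b N : ℕ) (hN : N = (∑ j, a j) + b)
    (p : k) (hp : ∀ j, p ≠ r j) (i : Fin m) (n : ℕ) (_hn1 : 1 ≤ n) (hn2 : n ≤ N - 1)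
    (hN1 : 1 ≤ N) :
    ¬ (U r a b ⊓ Fdiv (r i) n ≤ U r a b ⊓ Fdiv p 1) := by
  intro hle
  have hQ : (X - C p) * (X - C (r i)) ^ n ∈ degreeLT k (N + 1) ⊓ Fdiv (r i) n := by
    refine ⟨?_, mem_Fdiv.2 (dvd_mul_left _ _)⟩
    apply mem_degreeLT_of_natDegree_le
    refine natDegree_mul_le.trans ?_
    rw [(monic_X_sub_C (r i)).natDegree_pow, natDegree_X_sub_C, natDegree_X_sub_C]
    omega
  have h1 : T r a ((X - C p) * (X - C (r i)) ^ n) ∈ U r a b ⊓ Fdiv (r i) n := by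
    rw [U_eq r a hr, ← hN, place_marked r a hr N (by omega)]
    exact ⟨_, hQ, rfl⟩
  have h2 := eval_of_mem_Fdiv_one (hle h1).2
  rw [eval_T_lin] at h2
  have hR : (Rs r univ).eval p ≠ 0 := Rs_eval_ne_zero r _ _ fun j _ => hp j
  rcases mul_eq_zero.1 h2 with h3 | h3
  · exact hR h3
  · simp only [eval_pow, eval_sub, eval_X, eval_C] at h3
    exact hp i (sub_eq_zero.1 (pow_eq_zero_iff (by omega) |>.1 h3))

theorem V1_not_top (hr : Function.Injective r) (b N d : ℕ) (hN : N = (∑ j, a j) + b)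
    (hd : d + 1 = N + m) (p : k) (hp : ∀ j, p ≠ r j) (n : ℕ) (_hn1 : 1 ≤ n) (hn2 : n ≤ N - 1)
    (hN1 : 1 ≤ N) :
    ¬ (U r a b ⊓ degreeLT k (d + 1 - n) ≤ U r a b ⊓ Fdiv p 1) := by
  intro hle
  have hQ : (X - C p) * 1 ∈ degreeLT k (N + 1 - n) := by
    have e : N + 1 - n = (N - n) + 1 := by omega
    rw [e]
    apply mem_degreeLT_of_natDegree_le
    rw [mul_one, natDegree_X_sub_C]
    omega
  have h1 : T r a ((X - C p) * 1) ∈ U r a b ⊓ degreeLT k (d + 1 - n) := by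
    rw [U_eq r a hr, ← hN, place_top r a b N d hN hd]
    exact ⟨_, hQ, rfl⟩
  have h2 := eval_of_mem_Fdiv_one (hle h1).2
  rw [eval_T_lin, eval_one, mul_one] at h2
  exact Rs_eval_ne_zero r _ _ (fun j _ => hp j) h2

end Groth.Agent.Lib.Helper2.WronskP1
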